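import Cfsg.Agent.E7P.P2.CbMain_m3
import Cfsg.Agent.Prune
set_option linter.all false
prune_inst 0x7f00000000000000000000000000000000000000000000000000000000000000000000000000000000000000000000000000000000000000000000000000000000000000000000000000000000000000003fffffffffffffffffffffffffffbeffbdffffffff
open scoped Cfsg.Agent.FastGrp

/-!
# S5932, task E27: the classes of the torus of order 28 (helper97)
-/

set_option autoImplicit false
set_option maxRecDepth 100000
set_option Elab.async false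

namespace Cfsg.Agent.E7P.E27

open Cfsg.Agent.R2.T1 Cfsg.Agent.H944.Tab Cfsg.Agent.H944.E7Two

/-- the check of a class -/
noncomputable def pY (s : List ℕ) : Bool := frc (UU 28 T28 s) fun v => (TT v).mem v

/-- the invariants of a class, from the multiplicities of the exponents -/
noncomputable def UUf (M T : ℕ) (s : List ℕ) : ℕ :=
  frc (Fq.hs M (Fq.ev7 Fq.pV s)) fun a => frc (Fq.hs M (Fq.ev7 Fq.pL s)) fun b =>
  frc (Nat.mod (Nat.mul (2 * M - 1) (dt [2, 3, 4, 6, 5, 4, 3] s)) (2 * M)) fun c =>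
    Nat.add (sm M fun k => Nat.mul (Fq.dg a k) (PT T ((2 * k + c) % (2 * M))))
      (Nat.mul (1024 ^ 27) (Nat.add (7 * PT T 0) (Nat.mul 2 (sm M fun k => Nat.mul (Fq.dg b k) (PT T (2 * k % (2 * M)))))))

private theorem sum_cnt {α : Type} (e : α → ℕ) {M : ℕ} (hM : 0 < M) (φ : ℕ → ℕ) (L : List α) :
    (L.map fun w => φ (e w % M)).sum = ∑ k ∈ Finset.range M, cnt (fun w => e w % M == k) L * φ k := by
  induction L with
  | nil => exact (Finset.sum_eq_zero fun k _ => Nat.zero_mul _).symm
  | cons a L ih =>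
    rw [List.map_cons, List.sum_cons, ih]
    show _ = ∑ k ∈ Finset.range M, ((if (e a % M == k) = true then 1 else 0) + cnt (fun w => e w % M == k) L) * φ k
    simp only [Nat.add_mul, Finset.sum_add_distrib, beq_iff_eq, ite_mul, Nat.one_mul, Nat.zero_mul, Finset.sum_ite_eq,
      Finset.mem_range, Nat.mod_lt _ hM, if_true]

theorem UU_eq_UUf {M : ℕ} (hM : 0 < M) (T : ℕ) (s : List ℕ) : UU (2 * M) T s = UUf M T s := by
  delta UU UUf
  rw [frc_eq, frc_eq, frc_eq, frc_eq, sl_eq, sl_eq, sm_eq, sm_eq, Fq.pV_eq, Fq.pL_eq]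
  refine congrArg₂ (· + ·) ?_ (congrArg (fun x => 1024 ^ 27 * (7 * PT T 0 + 2 * x)) ?_)
  · refine Eq.trans ?_ ((sum_cnt (fun w : ℕ × List ℕ => dt w.2 s) hM
      (fun k => PT T ((2 * k + (2 * M - 1) * dt [2, 3, 4, 6, 5, 4, 3] s % (2 * M)) % (2 * M))) WL).trans
      (Finset.sum_congr rfl fun k _ => ?_))
    · refine congrArg List.sum (List.map_congr_left fun w _ => ?_)
      rw [← Nat.mul_mod_mul_left, ← Nat.add_mod]
    · rw [Fq.dg_hs _ hM (by decide +kernel)]
      rfl
  · refine Eq.trans ?_ ((sum_cnt (fun w : ℕ × List ℕ => dt w.2 s) hM (fun k => PT T (2 * k % (2 * M))) RL).trans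
      (Finset.sum_congr rfl fun k _ => ?_))
    · refine congrArg List.sum (List.map_congr_left fun w _ => ?_)
      rw [← Nat.mul_mod_mul_left, Nat.mod_mod]
    · rw [Fq.dg_hs _ hM (by decide +kernel)]
      rfl

theorem chkY {s : List ℕ} (h1 : s.length = 7) (h2 : dotN th7 s ≤ 14) : pY s = true := by
  have h : allAlc th7 14 (fun s => frc (UUf 14 T28 s) fun v => (TT v).mem v) = true := by decide +kernel
  delta pY
  rw [show UU 28 T28 s = _ from UU_eq_UUf (M := 14) (by decide) T28 s]
  exact allAlc_spec _ 14 _ (by decide) h s h1 h2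

end Cfsg.Agent.E7P.E27
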