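import Cfsg.Agent.E7P.E27.CY
import Cfsg.Agent.E7P.P2.CbMain_m3
import Cfsg.Agent.E7P.E81.Alc_m3
import Cfsg.Agent.E7P.P2.HbInd_m3
import Cfsg.Agent.Lib.FinFast
import Cfsg.Agent.E7P.P2.PeelA_m3
import Cfsg.Agent.E7P.En1.Rat_m3
import Cfsg.Agent.E7P.En2.Tab_m3
import Cfsg.Agent.E7P.Br.Api_m3
import Cfsg.Agent.R2.H28.SL2.Bas_m3
import Cfsg.Agent.E7P.E81.Crt
import Cfsg.Agent.FastGrp
import Cfsg.Agent.Prune
set_option linter.all false

section
prune_inst 0x7ff8b9f829b9a7ffff7f7e7faed0dffdb9913fffa6dff9433fe021ff0b9f030009c52f8509e000fe1e47601410387843bb7eefffe86bd47ffffd5c341ffbec4fa5e6b00851d48c300e280ff683e07f0a7f3ffff7fbffffffffffffffffffffbeffbfffbfffff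

-- part: E7P/E27/CX
section
prune_inst 0x8040000000000000000000000000000400000
set_option linter.all false
open scoped Cfsg.Agent.FastGrp

/-!
# S5932, task E27: the classes of the torus of order 26 (helper97)
-/

set_option autoImplicit false
set_option maxRecDepth 100000
set_option Elab.async false

namespace Cfsg.Agent.E7P.E27

open Cfsg.Agent.R2.T1 Cfsg.Agent.H944.Tab Cfsg.Agent.H944.E7Two

/-- the check of a class -/
noncomputable def pX (s : List ℕ) : Bool := frc (UU 26 T26 s) fun u => (TT u).alle u fun v =>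
  cond (Nat.beq (Nat.land (Nat.sub u v) MASK) 0) (good s (Nat.sub u v)) true

private theorem lane {w a b : ℕ} (A C : ℕ) (ha : a < 2 ^ w) (hb : b < 2 ^ w) :
    (2 ^ w * A + a) &&& (2 ^ w * C + b) = 2 ^ w * (A &&& C) + (a &&& b) := by
  refine Nat.eq_of_testBit_eq fun j => ?_
  rw [Nat.testBit_and, Nat.testBit_two_pow_mul_add _ ha, Nat.testBit_two_pow_mul_add _ hb,
    Nat.testBit_two_pow_mul_add _ (Nat.and_lt_two_pow _ hb)]
  split_ifs <;> rw [Nat.testBit_and]

/-- the values of `g` on a list, in lanes of width `w` -/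
private def pl (w : ℕ) (g : ℕ → ℕ) : List ℕ → ℕ
  | [] => 0
  | x :: L => 2 ^ w * pl w g L + g x

/-- in every lane, `(u + G - v) &&& K` is not zero -/
private def tst (K G u O V : ℕ) : Bool :=
  Nat.beq (Nat.land (Nat.add (Nat.land (Nat.sub (Nat.mul (Nat.add u G) O) V) (Nat.mul K O)) (Nat.mul (Nat.pred G) O))
    (Nat.mul G O)) (Nat.mul G O)

private theorem tst_spec {w K u : ℕ} (hK : K < 2 ^ w) (hu : u < 2 ^ w) (L : List ℕ) (hL : ∀ v ∈ L, v < 2 ^ w) :
    pl (w + 1) id L ≤ (u + 2 ^ w) * pl (w + 1) (fun _ => 1) L ∧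
    (tst K (2 ^ w) u (pl (w + 1) (fun _ => 1) L) (pl (w + 1) id L) = true → ∀ v ∈ L, v ≤ u → (u - v) &&& K ≠ 0) := by
  induction L with
  | nil => exact ⟨Nat.zero_le _, fun _ _ hv => absurd hv List.not_mem_nil⟩
  | cons x L ih =>
    obtain ⟨h1, h2⟩ := ih fun v hv => hL v (List.mem_cons_of_mem _ hv)
    have hx := hL x List.mem_cons_self
    have hB : 2 ^ (w + 1) = 2 * 2 ^ w := Nat.pow_succ'
    have e : ∀ a : ℕ, a * pl (w + 1) (fun _ => 1) (x :: L) = 2 ^ (w + 1) * (a * pl (w + 1) (fun _ => 1) L) + a := fun a => by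
      show a * (2 ^ (w + 1) * _ + 1) = _
      rw [Nat.mul_add, Nat.mul_one, Nat.mul_left_comm]
    have e1 : pl (w + 1) id (x :: L) = 2 ^ (w + 1) * pl (w + 1) id L + x := rfl
    have h3 := Nat.mul_le_mul_left (2 ^ (w + 1)) h1
    refine ⟨by rw [e, e1]; omega, fun h => ?_⟩
    have h4 : ((((u + 2 ^ w) * pl (w + 1) (fun _ => 1) (x :: L) - pl (w + 1) id (x :: L)) &&&
        (K * pl (w + 1) (fun _ => 1) (x :: L))) + (2 ^ w - 1) * pl (w + 1) (fun _ => 1) (x :: L)) &&&
        (2 ^ w * pl (w + 1) (fun _ => 1) (x :: L)) = 2 ^ w * pl (w + 1) (fun _ => 1) (x :: L) := Nat.eq_of_beq_eq_true h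
    have h5 : (u + 2 ^ w - x) &&& K ≤ K := Nat.and_le_right
    rw [e, e, e, e, e1, show 2 ^ (w + 1) * ((u + 2 ^ w) * pl (w + 1) (fun _ => 1) L) + (u + 2 ^ w) -
        (2 ^ (w + 1) * pl (w + 1) id L + x) =
        2 ^ (w + 1) * ((u + 2 ^ w) * pl (w + 1) (fun _ => 1) L - pl (w + 1) id L) + (u + 2 ^ w - x) by
        rw [Nat.mul_sub]; omega, lane _ _ (by omega) (by omega), Nat.add_add_add_comm, ← Nat.mul_add,
      lane _ _ (by omega) (by omega)] at h4
    have h6 : (((u + 2 ^ w - x) &&& K) + (2 ^ w - 1)) &&& 2 ^ w ≤ 2 ^ w := Nat.and_le_right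
    have h0 : 0 < 2 ^ w := Nat.pow_pos (by decide)
    have h7 := congrArg (· % 2 ^ (w + 1)) h4
    simp only [Nat.mul_add_mod] at h7
    rw [Nat.mod_eq_of_lt (by omega), Nat.mod_eq_of_lt (by omega)] at h7
    rw [h7] at h4
    have h8 := Nat.eq_of_mul_eq_mul_left (by omega) (Nat.add_right_cancel h4)
    intro v hv hvu
    rcases List.mem_cons.1 hv with rfl | hv
    · intro h9
      have h10 : (u + 2 ^ w - v) &&& K = (u - v) &&& K := by
        have h11 := lane (w := w) 1 0 (a := u - v) (by omega) hK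
        rw [Nat.mul_one, Nat.mul_zero, Nat.zero_add, Nat.and_zero, Nat.mul_zero, Nat.zero_add] at h11
        rw [← h11]
        congr 1
        omega
      rw [h10, h9, Nat.zero_add, Nat.and_comm, Nat.and_two_pow_sub_one_eq_mod, Nat.mod_self] at h7
      omega
    · exact h2 ((congrArg (Nat.beq · _) h8).trans (Nat.beq_refl _)) v hv hvu

private theorem pl_append (w : ℕ) (g : ℕ → ℕ) (B A : List ℕ) : pl w g (A ++ B) = 2 ^ (w * A.length) * pl w g B + pl w g A := by
  induction A with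
  | nil => exact (Nat.one_mul _).symm
  | cons x A ih =>
    show 2 ^ w * pl w g (A ++ B) + g x = 2 ^ (w * A.length + w) * pl w g B + (2 ^ w * pl w g A + g x)
    rw [ih, Nat.pow_add]
    ring

/-- the values -/
private noncomputable def toL (t : Tr) : List ℕ := Tr.rec [] (fun _ x _ il ir => il ++ x :: ir) t

/-- the width of all the lanes -/
private noncomputable def szT (t : Tr) : ℕ := Tr.rec 0 (fun _ _ _ il ir => Nat.add il (Nat.add ir 552)) t

/-- the values of `g` in lanes -/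
private noncomputable def pkT (g : ℕ → ℕ) (t : Tr) : ℕ :=
  Tr.rec 0 (fun l x _ il ir => Nat.add (Nat.shiftLeft (Nat.add (Nat.shiftLeft ir 552) (g x)) (szT l)) il) t

/-- all values are small -/
private noncomputable def smT (G : ℕ) (t : Tr) : Bool := Tr.rec true (fun _ x _ il ir => cond (Nat.blt x G) (cond il ir false) false) t

private theorem szT_eq (t : Tr) : szT t = 552 * (toL t).length := by
  induction t with
  | nil => rfl
  | nd l x r il ir =>
    show szT l + (szT r + 552) = 552 * (toL l ++ x :: toL r).length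
    rw [il, ir, List.length_append, List.length_cons]
    omega

set_option exponentiation.threshold 600 in
private theorem pkT_eq (g : ℕ → ℕ) (t : Tr) : pkT g t = pl 552 g (toL t) := by
  induction t with
  | nil => rfl
  | nd l x r il ir =>
    show (pkT g r <<< 552 + g x) <<< szT l + pkT g l = pl 552 g (toL l ++ x :: toL r)
    rw [pl_append, pl, il, ir, szT_eq, Nat.shiftLeft_eq, Nat.shiftLeft_eq, Nat.mul_comm, Nat.mul_comm (pl _ _ _)]

private theorem smT_spec {G : ℕ} (t : Tr) : smT G t = true → ∀ v ∈ toL t, v < G := by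
  induction t with
  | nil => exact fun _ _ hv => absurd hv List.not_mem_nil
  | nd l x r il ir =>
    intro h v hv
    have h1 : cond (Nat.blt x G) (cond (smT G l) (smT G r) false) false = true := h
    cases h2 : Nat.blt x G <;> cases h3 : smT G l <;> simp only [h2, h3, cond_true, cond_false, Bool.false_eq_true] at h1
    rcases List.mem_append.1 (show v ∈ toL l ++ x :: toL r from hv) with hv | hv
    · exact il h3 v hv
    · rcases List.mem_cons.1 hv with rfl | hv
      · exact Nat.blt_eq.mp h2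
      · exact ir h1 v hv

private theorem alle_of {u : ℕ} {f : ℕ → Bool} (t : Tr) : (∀ v ∈ toL t, v ≤ u → f v = true) → t.alle u f = true := by
  induction t with
  | nil => exact fun _ => rfl
  | nd l x r il ir =>
    intro h
    have h1 := il fun v hv => h v (List.mem_append_left _ hv)
    have h2 := ir fun v hv => h v (List.mem_append_right _ (List.mem_cons_of_mem _ hv))
    show cond (Nat.ble x u) (cond (f x) (cond (l.alle u f) (r.alle u f) false) false) (l.alle u f) = true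
    rw [h1, h2]
    cases h3 : Nat.ble x u
    · rfl
    · rw [h x (List.mem_append_right _ List.mem_cons_self) (Nat.le_of_ble_eq_true h3)]
      rfl

/-- `Tr.alle`, where the subtrees without a candidate are tested at once -/
private noncomputable def alf (K G : ℕ) (t : Tr) (u : ℕ) (f : ℕ → Bool) : Bool :=
  Tr.rec true (fun l x r il ir => cond (tst K G u (pkT (fun _ => 1) (.nd l x r)) (pkT id (.nd l x r))) true
    (cond (Nat.ble x u) (cond (f x) (cond il ir false) false) il)) t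

private theorem alle_of_alf {w K u : ℕ} (hw : w + 1 = 552) (hK : K < 2 ^ w) (hu : u < 2 ^ w) {f : ℕ → Bool}
    (hf : ∀ v, (u - v) &&& K ≠ 0 → f v = true) (t : Tr) :
    (∀ v ∈ toL t, v < 2 ^ w) → alf K (2 ^ w) t u f = true → t.alle u f = true := by
  induction t with
  | nil => exact fun _ _ => rfl
  | nd l x r il ir =>
    intro hs h
    have h1 : cond (tst K (2 ^ w) u (pkT (fun _ => 1) (.nd l x r)) (pkT id (.nd l x r))) true
      (cond (Nat.ble x u) (cond (f x) (cond (alf K (2 ^ w) l u f) (alf K (2 ^ w) r u f) false) false)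
        (alf K (2 ^ w) l u f)) = true := h
    cases h2 : tst K (2 ^ w) u (pkT (fun _ => 1) (.nd l x r)) (pkT id (.nd l x r))
    · have h3 := il fun v hv => hs v (List.mem_append_left _ hv)
      have h4 := ir fun v hv => hs v (List.mem_append_right _ (List.mem_cons_of_mem _ hv))
      rw [h2, cond_false] at h1
      show cond (Nat.ble x u) (cond (f x) (cond (l.alle u f) (r.alle u f) false) false) (l.alle u f) = true
      cases h5 : Nat.ble x u <;> cases h6 : f x <;> cases h7 : alf K (2 ^ w) l u f <;>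
        simp only [h5, h6, h7, cond_true, cond_false, Bool.false_eq_true] at h1 ⊢
      · exact h3 h7
      · exact h3 h7
      · rw [h3 h7]
        exact h4 h1
    · rw [pkT_eq, pkT_eq, ← hw] at h2
      exact alle_of _ fun v hv hvu => hf v ((tst_spec hK hu _ hs).2 h2 v hv hvu)

/-- the scalar product -/
private noncomputable def dF (r : List ℕ) : List ℕ → ℕ :=
  List.rec (fun _ => 0) (fun a _ ih b => List.rec 0 (fun x b' _ => Nat.add (Nat.mul a x) (ih b')) b) r

private theorem dF_eq (r : List ℕ) : ∀ b, dt r b = dF r b := by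
  induction r with
  | nil => intro b; cases b <;> rfl
  | cons a r ih =>
    intro b
    cases b with
    | nil => rfl
    | cons x b => exact congrArg (fun z => a * x + z) (ih b)

/-- the last condition of `valid` -/
private noncomputable def vW (s a b : List ℕ) (x : ℕ) (L : List (ℕ × List ℕ)) : Bool :=
  List.rec true (fun w _ ih => frc (Nat.mod (Nat.div x (Nat.pow 1024
      (Nat.mod (Nat.add (Nat.mul 2 (dF w.2 s)) (Nat.mul 25 (dF [2, 3, 4, 6, 5, 4, 3] s))) 26))) 1024) fun f =>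
    cond (cond (Nat.beq f 0) true (Nat.beq (Nat.add (dF w.2 a) 500) (Nat.add f (dF w.2 b)))) ih false) L

private theorem vW_eq (s a b : List ℕ) (x : ℕ) (L : List (ℕ × List ℕ)) :
    (L.all fun w => fl x (ex 26 s w.2) == 0 || dt w.2 a + 500 == fl x (ex 26 s w.2) + dt w.2 b) = vW s a b x L := by
  have e : ∀ m n : ℕ, (m == n) = Nat.beq m n := fun m n => Bool.eq_iff_iff.2 (beq_iff_eq.trans (Nat.beq_eq ▸ Iff.rfl))
  have e1 : ∀ p q r : Bool, ((p || q) && r) = cond (cond p true q) r false := by decide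
  induction L with
  | nil => rfl
  | cons w L ih =>
    rw [List.all_cons, ih, e, e, e1]
    show _ = frc (Nat.mod (Nat.div x (Nat.pow 1024
      (Nat.mod (Nat.add (Nat.mul 2 (dF w.2 s)) (Nat.mul 25 (dF [2, 3, 4, 6, 5, 4, 3] s))) 26))) 1024) fun f =>
      cond (cond (Nat.beq f 0) true (Nat.beq (Nat.add (dF w.2 a) 500) (Nat.add f (dF w.2 b)))) (vW s a b x L) false
    rw [frc_eq, ← dF_eq, ← dF_eq, ← dF_eq, ← dF_eq]
    rfl

/-- `valid` -/
private noncomputable def vF (s : List ℕ) (c : Ce) : Bool := c.1.length == 7 && c.2.1.length == 7 &&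
  ((List.range 7).any fun j => c.1.getD j 0 != c.2.1.getD j 0) && vW s c.1 c.2.1 c.2.2 WL

/-- `goodL` -/
private noncomputable def gF (L : List Ce) (s : List ℕ) (D : ℕ) : Bool :=
  L.all (vF s) && (socOK (nv D) (fl D 54 / 2) (cov (L.filter closed)) || (noninv (nv D) && socOK (nv D) (fl D 54 / 2) (cov L)))

private theorem gF_eq : goodL = gF := by
  funext L s D
  delta goodL gF
  rw [show valid s = vF s from funext fun c => congrArg (_ && ·) (vW_eq s c.1 c.2.1 c.2.2 WL)]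

/-- the check of a class -/
private noncomputable def qX (w : ℕ) (s : List ℕ) : Bool := frc (UUf 13 T26 s) fun u =>
  cond (Nat.blt u (2 ^ w)) (alf MASK (2 ^ w) (TT u) u fun v =>
    cond (Nat.beq (Nat.land (Nat.sub u v) MASK) 0)
      (frc (Nat.sub u v) (gF (look (dt [1, 16, 256, 4096, 65536, 1048576, 16777216] s)) s)) true) false

private theorem pX_of {w : ℕ} (hw : w + 1 = 552)
    (h : (Nat.blt MASK (2 ^ w) && (smT (2 ^ w) T0 && smT (2 ^ w) T1)) = true) {s : List ℕ} (hs : qX w s = true) :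
    pX s = true := by
  rw [Bool.and_eq_true, Bool.and_eq_true] at h
  delta pX
  rw [qX, frc_eq, ← UU_eq_UUf (by decide), ← gF_eq] at hs
  simp only [frc_eq] at hs
  rw [frc_eq]
  change cond (Nat.blt (UU 26 T26 s) _) (alf _ _ (TT (UU 26 T26 s)) (UU 26 T26 s) fun v =>
    cond (Nat.beq (Nat.land (Nat.sub (UU 26 T26 s) v) MASK) 0) (good s (Nat.sub (UU 26 T26 s) v)) true) false = true at hs
  generalize UU 26 T26 s = u at hs ⊢
  cases h1 : Nat.blt u (2 ^ w) <;> rw [h1] at hs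
  · exact Bool.noConfusion hs
  refine alle_of_alf hw (Nat.blt_eq.mp h.1) (Nat.blt_eq.mp h1) (fun v hv => ?_) _ (smT_spec _ ?_) hs
  · cases h2 : Nat.beq (Nat.land (Nat.sub u v) MASK) 0
    · rfl
    · exact absurd (Nat.eq_of_beq_eq_true h2) hv
  · delta TT
    cases Nat.beq (u % 1024) 0
    · exact h.2.2
    · exact h.2.1

theorem chkX {s : List ℕ} (h1 : s.length = 7) (h2 : dotN th7 s ≤ 13) : pX s = true := by
  have h : allAlc th7 13 (qX 551) = true := by decide +kernel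
  exact pX_of rfl (by decide +kernel) (allAlc_spec _ 13 _ (by decide) h s h1 h2)

end Cfsg.Agent.E7P.E27
end

-- part: E7P/E27/Main
section
prune_inst 0x74605d206480000800180500f2000426ec000490000b84008d200e4007892e208d01ae613f20100b88ae804c0839044811000100428000000a3c04000139058100d052003300e11d260090010008400000008040000000000000000000000004000400000
set_option linter.all false
open scoped Cfsg.Agent.FastGrp

/-!
# S5932, task E27 (helper97)

`Sit.e27` : `p ^ a = 27` and `SSC` give `TorW (rho k)`.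
-/

set_option autoImplicit false
set_option maxRecDepth 100000
set_option maxHeartbeats 400000
set_option linter.unusedSectionVars false

namespace Cfsg.Agent.E7P

open Cfsg Cfsg.Lie Matrix Module
open Cfsg.Agent.H943.E7V.Block (D1 rho)
open Cfsg.Agent.R2.T1 Cfsg.Agent.E7P.Kf
open Cfsg.Agent.ChevalleyStructure.RootVec (rt)
open Cfsg.Agent.H943.SL2Rel Cfsg.Agent.H943.SL2Mod Cfsg.Agent.H943.RepAdd
open Cfsg.Agent.R2.H28.SL2
open Cfsg.Agent.H179.SLC (IsSS isSS_h)
open Cfsg.Agent.H944.Tab (dotN)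
open Cfsg.Agent.H944.E7Two (th7)

universe u v

namespace E27

/-- the coordinates of the weights -/
def wl (x : ℕ) : List ℕ := (List.range 7).map fun j => (rt chevE8 x j).toNat

/-- the coordinates of the positive roots -/
def rl (r : ℕ) : List ℕ := (List.range 7).map fun j => (rt chevE7 r j).toNat

theorem WL_wl : ∀ w ∈ WL, wl w.1 = w.2 := by decide +kernel

theorem RL_rl : ∀ w ∈ RL, rl w.1 = w.2 ∧ rl (125 - w.1) = List.replicate 7 0 ∧ 125 - (125 - w.1) = w.1 := by decide +kernel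

theorem rt_rl : ∀ r < 126, ∀ j < 7, rt chevE7 r j = ((rl r).getD j 0 : ℤ) - ((rl (125 - r)).getD j 0 : ℤ) := by decide +kernel

theorem wl_mem (μ : D1) : (nn μ, wl (nn μ)) ∈ WL := by
  obtain ⟨w, h1, h2⟩ := List.mem_map.1 ((WL_mem _ (nn_lt μ)).1 (rt_nn μ))
  rw [← h2, WL_wl w h1]
  exact h1

theorem dt_zero (n : ℕ) : ∀ y, dt (List.replicate n 0) y = 0 := by
  induction n with
  | zero => intro y; rfl
  | succ n ih =>
    intro y
    cases y with
    | nil => rfl
    | cons a y => rw [List.replicate_succ, dt, ih, zero_mul]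

theorem dtZ {w y : List ℕ} (hw : w.length = 7) (hy : y.length = 7) :
    ∑ j : Fin 7, (w.getD j 0 : ℤ) * (y.getD j 0 : ℤ) = dt w y := by
  rw [dt_eq w y (hw.trans hy.symm), hy, Finset.sum_range]
  push_cast
  rfl

theorem ra_dt (μ : D1) {y : List ℕ} (hy : y.length = 7) : ∑ j : Fin 7, Bl.ra μ j * (y.getD j 0 : ℤ) = dt (wl (nn μ)) y := by
  rw [← dtZ (WL_len _ (wl_mem μ)) hy]
  exact Finset.sum_congr rfl fun j _ => congrArg (· * _) (WL_rt _ (wl_mem μ) j j.2)

theorem top_dt {y : List ℕ} (hy : y.length = 7) :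
    ∑ j : Fin 7, Kf.iC 6 j * (y.getD j 0 : ℤ) = dt [2, 3, 4, 6, 5, 4, 3] y := by
  rw [← dtZ rfl hy]
  exact Finset.sum_congr rfl fun j _ => congrArg (· * _) (by revert j; decide)

theorem zpow_ex {G : Type*} [Group G] {ζ : G} {N : ℕ} (hζ : ζ ^ N = 1) (hN : 0 < N) (A B : ℕ) :
    ζ ^ ((A : ℤ) - B) = ζ ^ ((A + (N - 1) * B) % N) := by
  rw [← pow_eq_pow_mod _ hζ, _root_.zpow_sub, zpow_natCast, zpow_natCast, pow_add]
  congr 1
  refine inv_eq_of_mul_eq_one_left ?_
  rw [← pow_add, ← Nat.succ_mul, show (N - 1).succ = N by omega, pow_mul, hζ, one_pow]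

/-- the exponents on the Lie algebra -/
def eL (N : ℕ) (y : List ℕ) : chevE7.Idx → ℕ :=
  Sum.elim (fun _ => 0) fun r : Fin chevE7.nroots => (2 * dt (rl r) y + (N - 1) * (2 * dt (rl (125 - r)) y)) % N

/-- the cocharacter of a class -/
def cy (y : List ℕ) : Fin 7 → ℤ := Bl.co fun j => (y.getD j 0 : ℤ)

section
variable {k : Type u} [Field k] {ζ : kˣ} {N : ℕ} (hζ : ζ ^ N = 1) (hN : 0 < N) {y : List ℕ} (hy : y.length = 7)
include hζ hN hy

theorem ch_V (μ : D1) : ((ch (wc μ) (lam (cy y) ζ) : kˣ) : k) = (ζ : k) ^ ex N y (wl (nn μ)) := by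
  rw [ch_lam, cy, Bl.wc_co, ra_dt μ hy, top_dt hy, ← Units.val_pow_eq_pow_val, ex, ← zpow_ex hζ hN]
  rfl

theorem ch_L (i : chevE7.Idx) : ((ch (ac i) (lam (cy y) ζ) : kˣ) : k) = (ζ : k) ^ eL N y i := by
  rcases i with i | r
  · rw [ac_inl, ch_zero]
    exact (pow_zero _).symm
  · have h1 : pc r (fun j => (y.getD j 0 : ℤ)) = (dt (rl r) y : ℤ) - dt (rl (125 - r)) y := by
      rw [← dtZ (by simp [rl]) hy, ← dtZ (by simp [rl]) hy, ← Finset.sum_sub_distrib]
      exact Finset.sum_congr rfl fun j _ => by rw [rt_rl r r.2 j j.2, sub_mul]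
    rw [ac_inr, ch_lam, cy, E81.co_eq, nt_cw_root _ r.2, h1, mul_sub, ← Units.val_pow_eq_pow_val]
    exact congrArg _ (zpow_ex hζ hN (2 * _) (2 * _))

end

theorem sum_V (N : ℕ) (y : List ℕ) (φ : ℕ → ℕ) : ∑ μ : D1, φ (ex N y (wl (nn μ)) % N) = sl (fun w => φ (ex N y w)) WL := by
  rw [sum_D1 fun x => φ (ex N y (wl x) % N), sl_eq]
  exact congrArg _ (List.map_congr_left fun w hw => by rw [WL_wl w hw, ex, Nat.mod_mod])

theorem sum_L {N : ℕ} (hN : 0 < N) (y : List ℕ) {φ : ℕ → ℕ} (h : ∀ j < N, φ ((N - 1) * j % N) = φ j) :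
    ∑ i : chevE7.Idx, φ (eL N y i % N) = 7 * φ 0 + 2 * sl (fun w => φ (2 * dt w y % N)) RL := by
  refine (Fintype.sum_sum_type _).trans (congrArg₂ (· + ·) ?_ ?_)
  · show ∑ _ : Fin 7, φ (0 % N) = _
    rw [Finset.sum_const, Nat.zero_mod]
    rfl
  · refine (sum_roots fun r => φ ((2 * dt (rl r) y + (N - 1) * (2 * dt (rl (125 - r)) y)) % N % N)).trans ?_
    rw [two_mul (sl _ _), sl_eq]
    refine congrArg₂ (· + ·) (congrArg List.sum ?_) (congrArg List.sum ?_)
    · refine List.map_congr_left fun w hw => ?_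
      rw [(RL_rl w hw).1, (RL_rl w hw).2.1, dt_zero, mul_zero, mul_zero, add_zero, Nat.mod_mod]
    · refine List.map_congr_left fun w hw => ?_
      rw [(RL_rl w hw).2.2, (RL_rl w hw).1, (RL_rl w hw).2.1, dt_zero, mul_zero, zero_add, Nat.mod_mod, ← Nat.mul_mod_mod,
        h _ (Nat.mod_lt _ hN)]

theorem neg_of_isSS {K : Type v} [Field K] [Fintype K] [DecidableEq K] {k : Type u} [Field k] [DecidableEq k] (ι : K →+* k)
    {y : SpecialLinearGroup (Fin 2) K} (h : IsSS ι y (-1)) : y = -1 := by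
  obtain ⟨v₁, v₂, h1, h2, h3⟩ := h
  have h4 : (-y).1.map ι = - y.1.map ι := by
    ext i j
    exact map_neg ι _
  have h5 := pow_eq_one_of_isSS ι (g := -y) (ζ := 1) (N := 1) ⟨v₁, v₂, by rw [h4, neg_mulVec, h1, neg_smul, neg_neg],
    by rw [h4, neg_mulVec, h2, inv_neg, neg_smul, neg_neg], h3⟩ (pow_one _)
  rwa [pow_one, neg_eq_iff_eq_neg] at h5

/-- the digits -/
def dgt (n m : ℕ → ℕ) (i : ℕ) : ℕ := if i = 0 then 0 else if i ≤ 27 then 2 * n (i - 1) else 2 * m (i - 28)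

theorem pk_dgt (n m : ℕ → ℕ) : pk (dgt n m) 55 = ∑ d ∈ Finset.range 27, 2 * n d * 1024 ^ (d + 1) +
    1024 ^ 27 * ∑ d ∈ Finset.range 27, 2 * m d * 1024 ^ (d + 1) := by
  rw [pk, Finset.sum_range_succ', show 54 = 27 + 27 from rfl, Finset.sum_range_add, Finset.mul_sum,
    show dgt n m 0 = 0 from rfl, zero_mul, add_zero]
  refine congrArg₂ (· + ·) ?_ ?_
  · refine Finset.sum_congr rfl fun d hd => ?_
    have := Finset.mem_range.1 hd
    rw [dgt, if_neg (by omega), if_pos (by omega), Nat.add_sub_cancel]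
  · refine Finset.sum_congr rfl fun d _ => ?_
    rw [dgt, if_neg (by omega), if_neg (by omega), show 27 + d + 1 - 28 = d by omega, add_assoc, pow_add]
    ring

theorem good_of {s t : List ℕ} (hs : s.length = 7) (hs' : dotN th7 s ≤ 13) (ht : t.length = 7) (ht' : dotN th7 t ≤ 14)
    {c : ℕ → ℕ} (h0 : c 0 = 0) (hc : ∀ i < 55, c i < 512) (h : UU 26 T26 s = UU 28 T28 t + pk c 55) :
    good s (pk c 55) = true := by
  have h1 := chkX hs hs'
  have h2 := chkY ht ht'
  rw [pX, frc_eq] at h1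
  rw [pY, frc_eq] at h2
  generalize UU 26 T26 s = x at h h1
  generalize UU 28 T28 t = y at h h2
  have h3 : TT x = TT y := by
    have h4 : pk c 55 = _ := pk_succ c 54
    rw [TT, TT, show x % 1024 = y % 1024 by omega]
  rw [h3] at h1
  have h4 := Tr.of_mem h2 h1 (by omega)
  have h5 : Nat.sub x y = pk c 55 := by
    rw [h]
    exact Nat.add_sub_cancel_left _ _
  have h6 : Nat.land (pk c 55) MASK = 0 := by
    rw [MASK_eq]
    exact land_pk 55 c hc
  rwa [h5, h6, Nat.beq_refl] at h4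

theorem mult_le {k : Type u} [Field k] [DecidableEq k] {K : Type v} [Field K] [Fintype K] [DecidableEq K] {ι : K →+* k}
    {p a : ℕ} [Fact p.Prime] [CharP k p] [CharP K p] {V : Type*} [AddCommGroup V] [Module k V]
    {ρ : Representation k (SpecialLinearGroup (Fin 2) K) V} {n : ℕ → ℕ} (H : IsMult ι p a ρ n) (d : ℕ) : n d ≤ finrank k V := by
  by_cases h : n d = 0
  · omega
  rw [H.dim]
  exact (Nat.le_mul_of_pos_right _ (Finset.card_pos.2 ⟨0, Alm.zero_mem_Bf⟩)).trans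
    (Finset.single_le_sum (f := fun b => n b * (Bf k b).card) (fun _ _ => Nat.zero_le _) (Finset.mem_range.2 (H.supp d h)))

theorem rot_mod (j x : ℕ) : 3 ^ j * x % 26 = 3 ^ (j % 6) * x % 26 ∧ 3 ^ j * x % 28 = 3 ^ (j % 6) * x % 28 := by
  have h : ∀ N, 3 ^ 6 ≡ 1 [MOD N] → 3 ^ j * x % N = 3 ^ (j % 6) * x % N := fun N hN => by
    refine Nat.ModEq.mul_right x ?_
    conv_lhs => rw [← Nat.div_add_mod j 6, pow_add, pow_mul]
    exact ((hN.pow _).mul_right _).trans (by rw [one_pow, one_mul])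
  exact ⟨h 26 (by decide), h 28 (by decide)⟩

end E27

namespace Sit

open E27

section
variable {b : ℕ} {F : Type u} {K : Type v} {k : Type u} [Field F] [Fintype F] [Field K] [Fintype K] [Field k]
  (S : Sit 3 3 b F K k) [DecidableEq k] [DecidableEq K] [Fact (Nat.Prime 3)] [CharP k 3] [CharP K 3] [IsAlgClosed k]

theorem e27_sum {I : Type} [Fintype I] [DecidableEq I] {c : I → Fin 7 → ℤ} {R : Gh k →* Matrix I I k}
    {ρ : Representation k (SpecialLinearGroup (Fin 2) K) (I → k)} {n : ℕ → ℕ} (hR : WRep c R)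
    (hρ : ∀ x v, ρ x v = R (S.ψ x) *ᵥ v) (H : IsMult S.ι 3 3 ρ n)
    {y : SpecialLinearGroup (Fin 2) K} {ζ : k} {N : ℕ} (hy : IsSS S.ι y ζ) (hζ : IsPrimitiveRoot ζ N) (hN : (N : k) ≠ 0)
    (hq : 3 ^ 3 ≤ N + 1) {g : Gh k} {t : Fin chevE7.rank → kˣ} (ht : S.ψ y = g * Phi k t * g⁻¹) {e : I → ℕ}
    (he : ∀ i, ((ch (c i) t : kˣ) : k) = ζ ^ e i) (φ : ℕ → ℕ) : ∑ i, φ (e i % N) = CS N φ n := by
  rw [sum_fib (N := N) _ (fun i => Nat.mod_lt _ (by omega)), CS_eq k φ n (g := fun j => j) fun d m => Nat.mod_lt _ (by omega)]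
  exact Finset.sum_congr rfl fun θ hθ => by rw [S.e27_count hR hρ H hy hζ hN hq ht he (Finset.mem_range.1 hθ)]

theorem e27_rot {n : ℕ → ℕ} (H : IsMult S.ι 3 3 S.R n) {j : ℕ} (hj : S.Rot j)
    {y : SpecialLinearGroup (Fin 2) K} {ζ : k} {N : ℕ} (hy : IsSS S.ι y ζ) (hζ : IsPrimitiveRoot ζ N) (hN : (N : k) ≠ 0)
    (hq : 3 ^ 3 ≤ N + 1) (φ : ℕ → ℕ) : CS N (fun x => φ (3 ^ j * x % N)) n = CS N φ n := by
  rw [CS_eq k φ n (g := fun x => 3 ^ j * x % N) fun d m => Nat.mod_lt _ (by omega),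
    CS_eq k φ n (g := fun j => j) fun d m => Nat.mod_lt _ (by omega)]
  exact Finset.sum_congr rfl fun θ hθ => by
    rw [hj.mult (R := rho k) (fun _ _ => rfl) H hy hζ hN hq (Finset.mem_range.1 hθ)]

/-- the class of a generator of a torus -/
theorem e27_class {n m : ℕ → ℕ} (H : IsMult S.ι 3 3 S.R n) (H' : IsMult S.ι 3 3 S.RL m) {y : SpecialLinearGroup (Fin 2) K}
    {ζ : k} {M : ℕ} (hy : IsSS S.ι y ζ) (hζ : IsPrimitiveRoot ζ (2 * M)) (hN : ((2 * M : ℕ) : k) ≠ 0) (hM : 13 ≤ M)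
    {g : Gh k} {t : Fin chevE7.rank → kˣ} (ht : S.ψ y = g * Phi k t * g⁻¹) {T : ℕ}
    (hT : ∀ j < 2 * M, E27.PT T ((2 * M - 1) * j % (2 * M)) = E27.PT T j) :
    ∃ (l : List (Fin 7)) (s : List ℕ) (t' : Fin chevE7.rank → kˣ), s.length = 7 ∧ dotN th7 s ≤ M ∧
      S.ψ y = g * nL k l * Phi k t' * (g * nL k l)⁻¹ ∧ (∀ μ, ((ch (wc μ) t' : kˣ) : k) = ζ ^ ex (2 * M) s (wl (R2.T1.nn μ))) ∧
      UU (2 * M) T s = CS (2 * M) (E27.PT T) n + 1024 ^ 27 * CS (2 * M) (E27.PT T) m := by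
  obtain ⟨ζ, rfl⟩ := hζ.isUnit (by omega)
  have h1 := IsPrimitiveRoot.coe_units_iff.1 hζ
  have h2 : (ζ : k) ^ M = -1 := (hζ.pow (by omega) (mul_comm 2 M)).eq_neg_one_of_two_right
  obtain ⟨l, s, h3, h4⟩ := E81.alc' (by omega) h1 ht (by rw [← map_pow, pow_eq_one_of_isSS S.ι hy hζ.pow_eq_one, map_one])
    (by rw [← map_pow]; exact S.ψ_mem_center.2 (Or.inr (neg_of_isSS S.ι (h2 ▸ hy.pow _ M))))
  have h5 : (List.ofFn s).length = 7 := List.length_ofFn
  have h6 : (Bl.co fun i => (s i : ℤ)) = cy (List.ofFn s) := congrArg Bl.co (funext fun j => by fin_cases j <;> rfl)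
  rw [h6] at h4
  have h7 := ch_V h1.pow_eq_one (by omega) h5
  refine ⟨l, _, _, h5, ?_, h4, h7, ?_⟩
  · simp only [Fin.sum_univ_seven, Lb.mk, Matrix.cons_val] at h3
    simp only [List.ofFn_succ, List.ofFn_zero, th7, dotN]
    exact le_of_eq_of_le (by simp only [add_zero, add_assoc]; rfl) h3
  · rw [← S.e27_sum wrep_V (fun _ _ => rfl) H hy hζ hN (by omega) h4 h7, ← S.e27_sum wrep_L (fun _ _ => L_mulVec _ _) H' hy hζ hN
      (by omega) h4 (ch_L h1.pow_eq_one (by omega) h5), sum_V, sum_L (by omega) _ hT]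
    unfold E27.UU
    rw [frc_eq]
    rfl

theorem e27_main (hs : S.SSC) : Nonempty (S.TorW (rho k)) := by
  have H := isMult_cf S.ι 3 S.cardK S.R
  have H' := isMult_cf S.ι 3 S.cardK S.RL
  have h26 : ((26 : ℕ) : k) ≠ 0 := fun h => absurd ((CharP.cast_eq_zero_iff k 3 26).1 h) (by decide)
  have h28 : ((28 : ℕ) : k) ≠ 0 := fun h => absurd ((CharP.cast_eq_zero_iff k 3 28).1 h) (by decide)
  obtain ⟨c0, g, t, hζ, ht, hg⟩ := S.e27_frame
  have hζ : IsPrimitiveRoot (S.ι c0) 26 := hζ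
  have : NeZero ((28 : ℕ) : k) := ⟨h28⟩
  obtain ⟨ξ, hξ⟩ := HasEnoughRootsOfUnity.exists_primitiveRoot k 28
  obtain ⟨y, hy⟩ := H179.SLC.exists_isSS S.ι S.ι.injective 3 (ζ := ξ) (by rw [S.cardK]; exact hξ.pow_eq_one) fun h => by
    have h1 : ξ ^ 2 = 1 := by
      rw [sq]
      nth_rewrite 1 [h]
      exact inv_mul_cancel₀ (hξ.ne_zero (by decide))
    exact absurd ((hξ.pow_eq_one_iff_dvd 2).1 h1) (by decide)
  obtain ⟨g', t', ht'⟩ := exists_conj_T S.prime S.alg h28 (y := S.ψ y)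
    (by rw [← map_pow, pow_eq_one_of_isSS S.ι hy hξ.pow_eq_one, map_one])
  obtain ⟨l, s, t1, h1, h2, h3, h4, h5⟩ := S.e27_class H H' (M := 13) (isSS_h S.ι c0) hζ h26 le_rfl ht PT26_neg
  obtain ⟨-, s', -, h6, h7, -, -, h8⟩ := S.e27_class H H' (M := 14) hy hξ h28 (by decide) ht' PT28_neg
  generalize hn : (fun d => (cf (Sy.{u, u, v} S.ι 3) S.R).count d) = n at H h5 h8
  generalize hm : (fun d => (cf (Sy.{u, u, v} S.ι 3) S.RL).count d) = m at H' h5 h8
  have h9 : ∀ i < 55, dgt n m i < 512 := fun i _ => by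
    have k1 := mult_le H (i - 1)
    have k2 := mult_le H' (i - 28)
    rw [finrank_fintype_fun_eq_card] at k1 k2
    have k3 : Fintype.card D1 = 56 := by
      rw [Fintype.card_eq_sum_ones, sum_D1 fun _ => 1]
      rfl
    have k4 : Fintype.card chevE7.Idx = 133 := (Fintype.card_sum (α := Fin 7) (β := Fin 126)).trans (by simp)
    unfold dgt
    split_ifs <;> omega
  have h10 := good_of h1 h2 h6 h7 rfl h9 (by
    have k1 : UU 26 T26 s = _ := h5
    have k2 : UU 28 T28 s' = _ := h8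
    rw [k1, k2, pk_dgt]
    have k3 : CS (2 * 13) _ n = CS (2 * 14) _ n + _ := CS_PT n
    have k4 : CS (2 * 13) _ m = CS (2 * 14) _ m + _ := CS_PT m
    rw [k3, k4]
    ring)
  have h11 : nv (pk (dgt n m) 55) = n := funext fun d => by
    rw [nv]
    cases k1 : Nat.blt d 27
    · have k2 := mt Nat.blt_eq.mpr (Bool.eq_false_iff.1 k1)
      by_contra k3
      exact k2 (H.supp d fun h => k3 h.symm)
    · have k2 := Nat.blt_eq.mp k1
      rw [cond_true, fl_pk _ _ (fun i hi => (h9 i hi).trans (by decide)) _ (by omega), dgt, if_neg (by omega), if_pos (by omega),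
        Nat.add_sub_cancel, Nat.mul_div_cancel_left _ two_pos]
  have h12 : fl (pk (dgt n m) 55) 54 / 2 = m 26 := by
    rw [fl_pk _ _ (fun i hi => (h9 i hi).trans (by decide)) _ (by decide)]
    exact Nat.mul_div_cancel_left _ two_pos
  rw [good] at h10
  generalize look _ = L at h10
  rw [goodL, h11, h12, Bool.and_eq_true, List.all_eq_true] at h10
  obtain ⟨h13, h14⟩ := h10
  -- a certificate
  have key : ∀ c ∈ L, (∀ j, S.Rot j → ∀ θ < 26, fl c.2.2 θ ≠ 0 → fl c.2.2 (3 ^ j * θ % 26) ≠ 0) → ∀ d, InSoc S.ι 3 S.R d →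
      ((List.range 27).all fun m => !sb d m || fl c.2.2 (wx 26 d m) != 0) = true → Nonempty (S.TorW (rho k)) := by
    intro c hc k1 d k2 k3
    have k4 := h13 c hc
    simp only [valid, Bool.and_eq_true, Bool.or_eq_true, List.all_eq_true, List.any_eq_true, List.mem_range, beq_iff_eq,
      bne_iff_ne, Bool.not_eq_true'] at k3 k4
    obtain ⟨⟨⟨k5, k6⟩, j, k7, k8⟩, k9⟩ := k4
    refine S.e27_torw' (Θ := fun θ => fl c.2.2 θ ≠ 0) (by decide) hs (by decide) hζ (by decide) h3 (hg l) h4 k1 k2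
      (fun m hm => ?_) (l := Bl.co fun i => (c.1.getD i 0 : ℤ) - (c.2.1.getD i 0 : ℤ))
      (Bl.co_ne fun h => k8 (by have := congrFun h ⟨j, k7⟩; simp only [Pi.zero_apply] at this; omega)) fun μ ν k10 k11 => ?_
    · rw [Bf_eq k (cf_lt S.ι 3 S.cardK _ d (k2.mem_cf S.ι 3)), Finset.mem_filter, Finset.mem_range] at hm
      exact (k3 m hm.1).resolve_left (by rw [hm.2]; decide)
    · have k12 : ∀ μ, ex (2 * 13) s (wl (R2.T1.nn μ)) % 26 = ex 26 s (wl (R2.T1.nn μ)) := fun μ => Nat.mod_mod _ _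
      rw [k12] at k11
      rw [k12, k12] at k10
      have k13 := (k9 _ (wl_mem μ)).resolve_left k11
      have k14 := (k9 _ (wl_mem ν)).resolve_left (k10 ▸ k11)
      rw [Bl.wc_co, Bl.wc_co]
      simp only [mul_sub, Finset.sum_sub_distrib, ra_dt _ k5, ra_dt _ k6]
      dsimp only at k13 k14
      rw [k10] at k13
      omega
  subst hn hm
  rw [Bool.or_eq_true, Bool.and_eq_true] at h14
  rcases h14 with h14 | ⟨h14, h15⟩
  · obtain ⟨d, k1, k2⟩ := S.e27_socOK hs hζ h3 h4 h14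
    obtain ⟨c, k3, k4⟩ := List.any_eq_true.1 k1
    obtain ⟨k5, k6⟩ := List.mem_filter.1 k3
    simp only [E27.closed, List.all_eq_true, List.mem_range, Bool.or_eq_true, beq_iff_eq, bne_iff_ne] at k6
    exact key c k5 (fun j _ => pow_closed (Θ := fun θ => fl c.2.2 θ ≠ 0) (fun θ h h' => (k6 θ h).resolve_left h') j) d k2 k4
  · obtain ⟨d, k1, k2⟩ := S.e27_socOK hs hζ h3 h4 h15
    obtain ⟨c, k3, k4⟩ := List.any_eq_true.1 k1
    refine key c k3 (fun j hj θ k5 k6 => ?_) d k2 k4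
    have k7 := S.e27_rot H hj (isSS_h S.ι c0) hζ h26 (by decide) (fun x => 1024 ^ x)
    have k8 := S.e27_rot H hj hy hξ h28 (by decide) (fun x => 1024 ^ x)
    simp only [fun x => (rot_mod j x).1] at k7
    simp only [fun x => (rot_mod j x).2] at k8
    simp only [noninv, List.all_eq_true, Bool.or_eq_true, bne_iff_ne] at h14
    have k9 : 3 ^ (j % 6) ∉ [3, 9, 81, 243] := fun h => (h14 _ h).elim (fun h => h k7) fun h => h k8
    have k10 : ∀ i < 6, 3 ^ i ∉ [3, 9, 81, 243] → ∀ θ < 26, 3 ^ i * θ % 26 = θ := by decide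
    rwa [(rot_mod j θ).1, k10 _ (Nat.mod_lt _ (by decide)) k9 θ k5]

end

variable {p a b : ℕ} {F : Type u} {K : Type v} {k : Type u} [Field F] [Fintype F] [Field K] [Fintype K] [Field k]

/-- **E27** -/
theorem e27 (S : Sit 3 3 b F K k) (hs : S.SSC) : Nonempty (S.TorW (rho k)) := by
  classical
  have : Fact (Nat.Prime 3) := ⟨S.prime⟩
  have := S.chark
  have := S.charK
  have := S.closed
  exact S.e27_main hs

/-- **E27** -/
theorem e27' (S : Sit p a b F K k) (hp : p = 3) (ha : a = 3) (hs : S.SSC) : Nonempty (S.TorW (rho k)) := by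
  subst hp ha
  exact S.e27 hs

end Sit

end Cfsg.Agent.E7P

private theorem dce_6b47612ef2da : _root_.True := by
  try have : _root_.True := by simp only [_root_.Cfsg.Agent.E7P.E27.TT.eq_1]
  try have : _root_.True := by simp only [_root_.Cfsg.Agent.E7P.E27.ex.eq_1]
  try have : _root_.True := by simp only [_root_.Cfsg.Agent.E7P.E27.noninv.eq_1]
  try have : _root_.True := by simp only [_root_.Cfsg.Agent.E7P.E27.pX.eq_1]
  try have : _root_.True := by simp only [_root_.Cfsg.Agent.E7P.E27.valid.eq_1]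
  try have : _root_.True := by simp only [_root_.Cfsg.Agent.E7P.E27.cy.eq_1]
  try have : _root_.True := by simp only [_root_.Cfsg.Agent.E7P.E27.closed.eq_1]
  try have : _root_.True := by simp only [_root_.Cfsg.Agent.E7P.E27.rl.eq_1]
  try have : _root_.True := by simp only [_root_.Cfsg.Agent.E7P.E27.goodL.eq_1]
  try have : _root_.True := by simp only [_root_.Cfsg.Agent.E7P.E27.pY.eq_1]
  try have : _root_.True := by simp only [_root_.Cfsg.Agent.E7P.E27.nv.eq_1]
  try have : _root_.True := by simp only [_root_.Cfsg.Agent.E7P.E27.dgt.eq_1]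
  try have : _root_.True := by simp only [_root_.Cfsg.Agent.E7P.E27.good.eq_1]
  exact _root_.True.intro
end

-- part: E7P/P2/Nil
section
set_option linter.all false
open scoped Cfsg.Agent.FastGrp

/-!
# S5932, `p = 2`: nilpotent fixed vectors (helper39)

* `Ex2 β d y z` : `y ∈ Ul β` and `rho y = 1 + Z` up to levels `≥ 2 d`; `ex2` : existence; `Ex2.unique, comm, ne_one, mul_self`;
* `NV K` : the elements of square zero are sufficiently unstable (from PEEL: `nv_of_orth`);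
* `eps2` : the stabiliser of such an element centralises an involution or stabilises a root line;
* `Sit.nil2` : `A` fixes no nilpotent element.
-/

set_option autoImplicit false
set_option maxRecDepth 100000

namespace Cfsg.Agent.E7P

open Cfsg Cfsg.Lie Matrix Module
open Cfsg.Agent.H943.E7V.Block (D1 rho)
open Cfsg.Agent.R2.T1 Cfsg.Agent.E7P.Kf
open Cfsg.Agent.R2.PX (del)
open Cfsg.Agent.R2.T1.N6D (Zc)

universe u v

namespace P2

variable {K : Type u} [Field K] {β : E} {d : ℝ} {x z : chevE7.Idx → K} {y y' : Gh K}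

private noncomputable def _root_.Cfsg.Agent.LsF.fd62612_0 : {f // @Cfsg.Agent.ChevalleyStructure.RootVecTab.dig = f} := ⟨_, by first | (delta Cfsg.Agent.ChevalleyStructure.RootVecTab.dig; rewrite [Cfsg.Agent.LsF.nmul_pat]; exact rfl) | exact rfl⟩
private noncomputable def _root_.Cfsg.Agent.LsF.fd62612_1 : {f // @Cfsg.Agent.ChevalleyStructure.RootVecTab.packTab = f} := ⟨_, by first | (delta Cfsg.Agent.ChevalleyStructure.RootVecTab.packTab; rewrite [Cfsg.Agent.LsF.instDecEq_eq, Cfsg.Agent.LsF.ite_eq]; exact rfl) | exact rfl⟩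
private noncomputable def _root_.Cfsg.Agent.LsF.fd62612_2 : {f // @Cfsg.Agent.ChevalleyStructure.RootVecTab.code = f} := ⟨_, by first | (delta Cfsg.Agent.ChevalleyStructure.RootVecTab.code; rewrite [Cfsg.Agent.LsF.fd62612_1.2, Cfsg.Agent.LsF.nmul_pat, Cfsg.Agent.LsF.npow_pat]; exact rfl) | exact rfl⟩
private noncomputable def _root_.Cfsg.Agent.LsF.fd62612_3 : {f // @Cfsg.Agent.ChevalleyStructure.RootVec.rt = f} := ⟨_, by first | (delta Cfsg.Agent.ChevalleyStructure.RootVec.rt; rewrite [Cfsg.Agent.LsF.fd62612_0.2, Cfsg.Agent.LsF.fd62612_2.2, Cfsg.Agent.LsF.nsub_pat, Cfsg.Agent.LsF.isub_pat, Cfsg.Agent.LsF.icast_pat, Cfsg.Agent.LsF.decLt_eq, Cfsg.Agent.LsF.dAnd_eq, Cfsg.Agent.LsF.ite_eq]; exact rfl) | exact rfl⟩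
private noncomputable def _root_.Cfsg.Agent.LsF.fd62612_4 : {f // @Cfsg.Agent.E7P.Kf.pc = f} := ⟨_, by first | (delta Cfsg.Agent.E7P.Kf.pc; rewrite [Cfsg.Agent.LsF.sumF_pat, Cfsg.Agent.LsF.fd62612_3.2, Cfsg.Agent.LsF.iadd_pat, Cfsg.Agent.LsF.imul_pat, Cfsg.Agent.LsF.iACM_eq]; exact rfl) | exact rfl⟩
private noncomputable def _root_.Cfsg.Agent.LsF.fd62612_5 : {f // @Cfsg.Lie.ChevalleyDatum.cartan = f} := ⟨_, by first | (delta Cfsg.Lie.ChevalleyDatum.cartan; rewrite [Cfsg.Agent.LsF.agetD_eq]; exact rfl) | exact rfl⟩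
private noncomputable def _root_.Cfsg.Agent.LsF.fd62612_6 : {f // @Cfsg.Agent.E7P.Kf.rc = f} := ⟨_, by first | (delta Cfsg.Agent.E7P.Kf.rc; rewrite [Cfsg.Agent.LsF.fd62612_5.2]; exact rfl) | exact rfl⟩
theorem pc_self : ∀ r < 126, pc r (rc r) = 2 := by (refine of_decide_eq_true ?_; (try (rewrite [Cfsg.Agent.LsF.fd62612_4.2, Cfsg.Agent.LsF.fd62612_6.2, Cfsg.Agent.LsF.instIDecEq_eq, Cfsg.Agent.LsF.dBallLT_eq, Cfsg.Agent.LsF.decide_eq])); decide +kernel)

theorem bf_rv_rv {r : ℕ} (hr : r < 126) (s : ℕ) : bf (rv s) (rv r) = (pc r (rc s) : ℝ) := bf_cv_rv _ hr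

theorem rv_self {r : ℕ} (hr : r < 126) : bf (rv r) (rv r) = 2 := by
  rw [bf_rv_rv hr, pc_self r hr]
  rfl

/-- an element of the unipotent radical which raises the levels by more than all roots is trivial -/
theorem eq_one_of_high (hM : ∀ r < 126, bf β (rv r) < d) (hy : y ∈ Ul K β) (h : rho K y - 1 ∈ MGe K β d) : y = 1 :=
  (GS_le (T := ⊥) (fun r hr _ => absurd hr.2 (not_le.2 (hM r hr.1))) (mem_Ud_of_MGe hy h) :)

/-- `y` is the exponential of `z` up to level `2 d` -/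
def Ex2 (β : E) (d : ℝ) (y : Gh K) (z : chevE7.Idx → K) : Prop := y ∈ Ul K β ∧ rho K y - 1 - del K z ∈ MGe K β (2 * d)

theorem Ex2.sub_one (hd : 0 < d) (h : Ex2 β d y z) (hz : z ∈ Ge K ac β d) : rho K y - 1 ∈ MGe K β d := by
  have h1 := add_mem (MGe_mono (by linarith) h.2) (del_mem_MGe hz)
  rwa [sub_add_cancel] at h1

theorem Ex2.mul (hd : 0 < d) (h : Ex2 β d y x) (h' : Ex2 β d y' z) (hx : x ∈ Ge K ac β d) (hz : z ∈ Ge K ac β d) :
    Ex2 β d (y * y') (x + z) := by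
  refine ⟨mul_mem h.1 h'.1, ?_⟩
  have h1 := MGe_mul (h.sub_one hd hx) (h'.sub_one hd hz)
  rw [← two_mul] at h1
  convert add_mem (add_mem h.2 h'.2) h1 using 1
  rw [rho_mul_sub, map_add]
  abel

/-- **existence** -/
theorem ex2 (hd : 0 < d) (hz : z ∈ Ge K ac β d) : ∃ y, Ex2 β d y z :=
  Lb.Ge_induction hd (P := fun z => ∃ y, Ex2 β d y z) ⟨1, one_mem _, by simp⟩
    (fun _ hx _ hx' ⟨_, h⟩ ⟨_, h'⟩ => ⟨_, h.mul hd h' hx hx'⟩)
    (fun r h t => ⟨xs K r t, xs_mem_Ul r.2 (hd.trans_le h) t, by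
      have h1 := lead_xs (K := K) r.2 t
      exact h1 ▸ zero_mem _⟩) hz

theorem Ex2.conj (h : Ex2 β d y z) {g : Gh K} (hg : g ∈ Pl K β) : Ex2 β d (g * y * g⁻¹) (adM K g *ᵥ z) := by
  refine ⟨Ul_conj hg h.1, ?_⟩
  convert MGe_conj hg h.2 using 1
  simp only [del_adM', map_mul, mul_sub, sub_mul, mul_one, La.rho_mul_inv]

theorem Ex2.unique (hM : ∀ r < 126, bf β (rv r) < 2 * d) (h : Ex2 β d y z) (h' : Ex2 β d y' z) : y = y' := by
  refine mul_inv_eq_one.1 (eq_one_of_high hM (mul_mem h.1 (inv_mem h'.1)) ?_)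
  have h1 := MGe_mul (sub_mem h.2 h'.2) (rho_mem_MGe (inv_mem h'.1.1))
  rwa [sub_sub_sub_cancel_right, sub_sub_sub_cancel_right, sub_mul, ← map_mul, La.rho_mul_inv, add_zero] at h1

theorem Ex2.comm (hM : ∀ r < 126, bf β (rv r) < 2 * d) (h : Ex2 β d y z) {g : Gh K} (hg : g ∈ Pl K β)
    (hz : adM K g *ᵥ z = z) : g * y = y * g := by
  have h1 := h.conj hg
  rw [hz] at h1
  exact mul_inv_eq_iff_eq_mul.1 (h1.unique hM h)

theorem Ex2.ne_one (hd : 0 < d) (hM : ∀ r < 126, bf β (rv r) < 2 * d) (h : Ex2 β d y z) (h0 : z ≠ 0) : y ≠ 1 := by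
  rintro rfl
  have h1 := neg_mem h.2
  rw [map_one, sub_self, zero_sub, neg_neg] at h1
  exact h0 (Lb.eq_zero_of_high (by linarith) hM (mem_Ge_of_del h1))

theorem Ex2.mul_self (h2 : (2 : K) = 0) (hd : 0 < d) (hM : ∀ r < 126, bf β (rv r) < 2 * d) (h : Ex2 β d y z)
    (hz : z ∈ Ge K ac β d) : y * y = 1 := by
  have h1 := h.mul hd h hz hz
  rw [← two_smul K, h2, zero_smul] at h1
  exact h1.unique hM ⟨one_mem _, by simp⟩

/-! ### elements of square zero -/

/-- the basis vector of a root -/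
def er {r : ℕ} (hr : r < 126) : chevE7.Idx → K := Pi.single (Sum.inr ⟨r, hr⟩) 1

theorem del_er {r : ℕ} (hr : r < 126) : del K (er hr) = NM K r := R2.PX.del_inr ⟨r, hr⟩

theorem comm_xs {r : ℕ} (hr : r < 126) {g : Gh K} (h : adM K g *ᵥ er hr = er hr) (t : K) : g * xs K r t = xs K r t * g := by
  rw [fix_iff, del_er] at h
  refine rho_injective ?_
  rw [map_mul, map_mul, rho_xs' hr, mul_add, add_mul, Matrix.mul_smul, Matrix.smul_mul, h, mul_one, one_mul]

variable (K) in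
/-- the elements of square zero are sufficiently unstable -/
def NV : Prop := ∀ x : chevE7.Idx → K, x ≠ 0 → del K x * del K x = 0 →
  ∃ (g : Gh K) (l : E), bf l l ≤ 8 ∧ adM K g *ᵥ x ∈ Ge K ac l 2

/-- at most four orthogonal roots -/
theorem nv_of_orth (B : Finset ℕ) (hB : ∀ r ∈ B, r < 126) (hc : B.card ≤ 4)
    (ho : ∀ r ∈ B, ∀ s ∈ B, r ≠ s → pc r (rc s) = 0)
    (hx : ∀ i, x i ≠ 0 → ∃ r : Fin chevE7.nroots, i = Sum.inr r ∧ r.val ∈ B) : ∃ l : E, bf l l ≤ 8 ∧ x ∈ Ge K ac l 2 := by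
  have h1 : ∀ r ∈ B, bf (∑ s ∈ B, rv s) (rv r) = 2 := fun r hr => by
    rw [map_sum, LinearMap.sum_apply, Finset.sum_eq_single_of_mem r hr fun s hs h => by
      rw [bf_rv_rv (hB r hr), ho r hr s hs h.symm, Int.cast_zero], rv_self (hB r hr)]
  refine ⟨∑ s ∈ B, rv s, ?_, fun i hi => ?_⟩
  · rw [map_sum, Finset.sum_congr rfl h1, Finset.sum_const, nsmul_eq_mul]
    have h2 : (B.card : ℝ) ≤ 4 := by exact_mod_cast hc
    linarith
  · obtain ⟨r, rfl, hr⟩ := hx i hi
    exact (h1 r hr).ge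

theorem half_le {G : Type*} {St : G → Set E} {g g0 : G} {l : E} (ho : Opt bf St g β) (hf : (St g0).Finite)
    (hn : (St g0).Nonempty) (h8 : bf l l ≤ 8) (hl : ∀ s ∈ St g0, 2 ≤ bf l s) : 1 / 2 ≤ bf β β := by
  obtain ⟨γ, hγ⟩ := bf_pd.exists_cl hf hn
  have h1 := le_of_hull hl hγ.1
  have h2 := bf_pd.nonneg (l - (4 : ℝ) • γ)
  simp only [map_sub, map_smul, LinearMap.sub_apply, LinearMap.smul_apply, smul_eq_mul] at h2
  have h3 := bf_symm γ l
  have h4 := ho.2 g0 γ hγ
  linarith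

/-- the levels of the roots -/
theorem high_or (h : 1 / 2 ≤ bf β β) : (∀ r < 126, bf β (rv r) < 2 * bf β β) ∨
    ∃ r, ∃ hr : r < 126, er hr ∈ Ge K ac β 1 ∧ ∀ x ∈ Ge K ac β 1, ∃ c : K, x = c • er hr := by
  by_cases h1 : ∀ r < 126, bf β (rv r) < 2 * bf β β
  · exact Or.inl h1
  push Not at h1
  obtain ⟨r, hr, h1⟩ := h1
  have h2 : (2 : ℝ) • β = rv r := bf_pd.eq_of_le (by
    simp only [map_smul, LinearMap.smul_apply, smul_eq_mul]
    linarith) (by
    simp only [map_smul, LinearMap.smul_apply, smul_eq_mul, rv_self hr]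
    linarith)
  have h3 : ∀ s, bf (rv r) s = 2 * bf β s := fun s => by rw [← h2, map_smul, LinearMap.smul_apply, smul_eq_mul]
  refine Or.inr ⟨r, hr, fun i hi => ?_, fun x hx => ⟨x (Sum.inr ⟨r, hr⟩), funext fun i => ?_⟩⟩
  · obtain rfl : i = Sum.inr ⟨r, hr⟩ := by
      by_contra h4
      exact hi (Pi.single_eq_of_ne h4 _)
    have h4 := h3 (rv r)
    rw [rv_self hr] at h4
    show 1 ≤ bf β (rv r)
    linarith
  · by_cases h4 : i = Sum.inr ⟨r, hr⟩
    · rw [h4, Pi.smul_apply, er, Pi.single_eq_same, smul_eq_mul, mul_one]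
    rw [Pi.smul_apply, er, Pi.single_eq_of_ne h4, smul_zero]
    by_contra h5
    have h6 := hx i h5
    rcases i with i | s
    · rw [ac_inl, cv_zero, map_zero] at h6
      linarith
    · have h7 : 1 ≤ bf β (rv s) := h6
      have h8 : rv r = rv s := bf_pd.eq_of_le (by rw [rv_self hr, h3]; linarith) (by rw [rv_self hr, rv_self s.2])
      exact h4 (congrArg Sum.inr (Fin.ext (rv_inj hr s.2 h8).symm))

/-- **the stabiliser of an element of square zero** -/
theorem eps2 [Infinite K] (h2 : (2 : K) = 0) (hN : NV K) (h0 : x ≠ 0) (hx : del K x * del K x = 0) :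
    (∃ y : Gh K, y ≠ 1 ∧ y * y = 1 ∧ ∀ g, adM K g *ᵥ x = x → g * y = y * g) ∨
    ∃ (g0 : Gh K) (r : ℕ) (hr : r < 126), ∀ g, adM K g *ᵥ x = x →
      ∃ c : K, adM K g *ᵥ (adM K g0 *ᵥ er hr) = c • (adM K g0 *ᵥ er hr) := by
  obtain ⟨g1, l, h8, hl⟩ := hN x h0 hx
  have hX : ∃ v ∈ ({x} : Set (chevE7.Idx → K)), v ≠ 0 := ⟨x, rfl, h0⟩
  obtain ⟨g0, β, ho, hβ⟩ := wrep_L.exists_opt hX
  have hn : 1 / 2 ≤ bf β β := half_le (g0 := g1⁻¹) ho (St_finite _) (St_nonempty hX _) h8 (by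
    rintro _ ⟨i, rfl, _, rfl, hi⟩
    rw [inv_inv] at hi
    exact hl i hi)
  have hP : ∀ g, adM K g *ᵥ x = x → g0⁻¹ * g * g0 ∈ Pl K β := fun g hg => by
    rw [mul_assoc]
    refine wrep_L.opt_mem hX ho hβ fun s hs => ho.1.2 s (St_mul_sub ?_ g0 hs)
    rintro _ rfl
    show _ = _
    conv_lhs => rw [← hg, mulVec_inv]
  have hz := Br.Opt_Ge ho (Set.mem_singleton x)
  have hd : 0 < bf β β := by linarith
  rcases high_or (K := K) hn with hM | ⟨r, hr, h3, h4⟩
  · obtain ⟨y, hy⟩ := ex2 hd hz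
    refine Or.inl ⟨g0 * y * g0⁻¹, fun h => hy.ne_one hd hM (fun h5 => h0 ?_) ?_, ?_, fun g hg => ?_⟩
    · rw [← mulVec_inv' (adM K) g0 x, h5, mulVec_zero]
    · rw [show y = g0⁻¹ * (g0 * y * g0⁻¹) * g0 by group, h, mul_one, inv_mul_cancel]
    · rw [show g0 * y * g0⁻¹ * (g0 * y * g0⁻¹) = g0 * (y * y) * g0⁻¹ by group, hy.mul_self h2 hd hM hz, mul_one,
        mul_inv_cancel]
    · have h5 := hy.comm hM (hP g hg) (by rw [mulVec_mul, mulVec_mul, mulVec_inv', hg])
      rw [show g * (g0 * y * g0⁻¹) = g0 * (g0⁻¹ * g * g0 * y) * g0⁻¹ by group, h5]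
      group
  · refine Or.inr ⟨g0, r, hr, fun g hg => ?_⟩
    obtain ⟨c, hc⟩ := h4 _ (wrep_L.Ge_stab (hP g hg) h3)
    refine ⟨c, ?_⟩
    rw [← mulVec_smul, ← hc, mulVec_mul, mulVec_mul, mulVec_inv']

end P2

namespace Sit

open P2

variable {p a b : ℕ} {F : Type u} {K : Type v} {k : Type u} [Field F] [Fintype F] [Field K] [Fintype K] [Field k]
  (S : Sit p a b F K k)

/-- `A` fixes no root vector -/
theorem not_fix_er (hp : p = 2) {g : Gh k} {r : ℕ} (hr : r < 126) (h : adM k g *ᵥ er hr ∈ S.C) : False := by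
  refine S.not_cent_xs hp (g := g) hr one_ne_zero fun x => ?_
  have h1 := comm_xs hr (g := g⁻¹ * S.ψ x * g) (by rw [mulVec_mul, mulVec_mul, h x, mulVec_inv]) 1
  rw [show S.ψ x * (g * xs k r 1 * g⁻¹) = g * (g⁻¹ * S.ψ x * g * xs k r 1) * g⁻¹ by group, h1]
  group

/-- `A` fixes no element of square zero -/
theorem sq_zero2 (hp : p = 2) (hN : NV k) {y : chevE7.Idx → k} (hy : y ∈ S.C) (h : del k y * del k y = 0) : y = 0 := by
  have := S.closed
  by_contra h0
  rcases eps2 (S.two hp) hN h0 h with ⟨c, h1, h2, h3⟩ | ⟨g, r, hr, h1⟩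
  · exact h1 (S.ck2' hp (fun x => h3 _ (hy x)) h2)
  · exact S.not_fix_er hp hr (S.fix_of_line (adM k) fun x => h1 _ (hy x))

/-- **`A` fixes no nilpotent element** -/
theorem nil2 (hp : p = 2) (hN : NV k) {y : chevE7.Idx → k} (hy : y ∈ S.C) (h : IsNilpotent (del k y)) : y = 0 := by
  by_contra h0
  obtain ⟨w, hw, h1, h2⟩ := exists_sq_zero (S.two hp) (C := S.C) (fun _ => S.sq_mem_C hp) hy h0 h
  exact h1 (S.sq_zero2 hp hN hw h2)

end Sit

end Cfsg.Agent.E7P

private theorem dce_fdca625a3540 : _root_.True := by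
  try have : _root_.True := by simp only [_root_.Cfsg.Agent.E7P.P2.er.eq_1]
  exact _root_.True.intro
end

-- part: E7P/P2/PeelB
section
prune_inst 0x8040000000000000000000000000000400000
set_option linter.all false
open scoped Cfsg.Agent.FastGrp

/-!
# S5932, `p = 2`, PEEL (helper5): elements of square zero are conjugate into the span of the frame
-/

set_option autoImplicit false
set_option maxRecDepth 100000

namespace Cfsg.Agent.E7P.Pe

open Cfsg Cfsg.Lie Matrix Module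
open Cfsg.Agent.H943.E7V.Block (D1 rho)
open Cfsg.Agent.R2.T1 Cfsg.Agent.E7P.Kf Cfsg.Agent.E7P.Br
open Cfsg.Agent.R2.PX (del)

universe u

variable {K : Type u} [Field K]

theorem pc_add (r : ℕ) (c d : Fin 7 → ℤ) : pc r (c + d) = pc r c + pc r d := by
  simp only [pc, Pi.add_apply, mul_add, Finset.sum_add_distrib]

theorem pc_zero (r : ℕ) : pc r 0 = 0 := by
  simp only [pc, Pi.zero_apply, mul_zero, Finset.sum_const_zero]

theorem pc_nsmul (r m : ℕ) (c : Fin 7 → ℤ) : pc r (m • c) = m * pc r c := by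
  induction m with
  | zero => rw [zero_smul, pc_zero, Nat.cast_zero, zero_mul]
  | succ m ih => rw [succ_nsmul, pc_add, ih]; push_cast; ring

/-- the bracket with a root vector -/
theorem br_er [Infinite K] (r : Fin chevE7.nroots) (y : chevE7.Idx → K) : br K (er K r) y = EM K r *ᵥ y := by
  classical
  have hN : del K (er K r) = NM K r := R2.PX.del_inr r
  have hNN : NM K r * NM K r = 0 := R2.PX.NM_mul_self r.2
  obtain ⟨A, hA⟩ : ∃ A, A = del K (EM K r *ᵥ y) := ⟨_, rfl⟩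
  obtain ⟨d, hd⟩ : ∃ d, d = -(y (Sum.inr (ng r))) := ⟨_, rfl⟩
  have key : ∀ t : K, t • (NM K r * del K y - del K y * NM K r - A) = t ^ 2 • (d • NM K r + A * NM K r) := by
    intro t
    have h := P2.eqv2 (xs K r t) y
    rw [rho_xs' r.2, adM_xs r.2, add_mulVec, add_mulVec, one_mulVec, smul_mulVec, smul_mulVec, QM_mulVec, map_add,
      map_add, map_smul, map_smul, map_smul, hN, ← hA, ← hd] at h
    simp only [add_mul, mul_add, one_mul, mul_one, smul_mul_assoc, mul_smul_comm, hNN, smul_zero, add_zero] at h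
    linear_combination (norm := module) h
  obtain ⟨a, ha⟩ := Infinite.exists_notMem_finset ({0, 1} : Finset K)
  rw [Finset.mem_insert, Finset.mem_singleton, not_or] at ha
  have h1 := key 1
  have h2 := key a
  rw [one_pow, one_smul, one_smul] at h1
  rw [← h1, ← sub_eq_zero, ← sub_smul, smul_eq_zero] at h2
  refine Mu.del_injective ?_
  rw [del_br, hN, ← hA, ← sub_eq_zero]
  refine h2.resolve_left fun e => ?_
  rw [show a - a ^ 2 = a * (1 - a) by ring, mul_eq_zero, sub_eq_zero] at e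
  exact e.elim ha.1 fun e => ha.2 e.symm

theorem eq_inr {j : chevE7.Idx} {s : Fin chevE7.nroots} (h : cv (ac j) = rv s) : j = Sum.inr s := by
  rcases j with j | u
  · rw [ac_inl, cv_zero] at h
    exact absurd h.symm (rv_ne s.2)
  · exact congrArg _ (Fin.ext (rv_inj u.2 s.2 h))

theorem xs_apply {r : ℕ} (hr : r < 126) (t : K) (y : chevE7.Idx → K) (i : chevE7.Idx) :
    (adM K (xs K r t) *ᵥ y) i = y i + t * (EM K r *ᵥ y) i + t ^ 2 * (QM K r *ᵥ y) i := by
  rw [adM_xs hr, add_mulVec, add_mulVec, one_mulVec, smul_mulVec, smul_mulVec]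
  rfl

theorem mulVec_one {A : Matrix chevE7.Idx chevE7.Idx K} {i j : chevE7.Idx} (y : chevE7.Idx → K)
    (h : ∀ j', A i j' ≠ 0 → j' = j) : (A *ᵥ y) i = A i j * y j :=
  Finset.sum_eq_single (f := fun j' => A i j' * y j') j (fun j' _ hj => by rw [of_not_not fun e => hj (h j' e), zero_mul])
    fun e => absurd (Finset.mem_univ _) e

theorem mulVec_none {A : Matrix chevE7.Idx chevE7.Idx K} {i : chevE7.Idx} (y : chevE7.Idx → K)
    (h : ∀ j', A i j' ≠ 0 → False) : (A *ᵥ y) i = 0 :=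
  of_not_not fun e => by
    obtain ⟨j, h1, -⟩ := exists_col e
    exact h j h1

theorem cf_cast {r s u : ℕ} (hr : r < 126) (h : cf r s u ≠ 0) : ((cf r s u : ℤ) : K) ≠ 0 := by
  rcases F7_cases hr s with h1 | ⟨u', c, h1, -, -, h2, -⟩
  · exact absurd (cf_nil h1 u) h
  · rw [cf_cons h1] at h ⊢
    rw [if_pos (of_not_not fun e => h (if_neg e))]
    exact cast_ne h2

/-- the frame as indices -/
def fI (k : ℕ) : Fin chevE7.nroots := ⟨fr k, fr_lt k⟩

/-- the level of a coordinate -/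
def lev (k : ℕ) (i : chevE7.Idx) : ℤ := pc (fr k) (ac i)

variable {k : ℕ}

theorem lev_inl (k : ℕ) (i : Fin chevE7.rank) : lev k (Sum.inl i) = 0 := pc_zero _

theorem lev_inr (hk : k < 7) (r : Fin chevE7.nroots) : lev k (Sum.inr r) = lt k r := chk_lt k hk r r.2

theorem lev_le (hk : k < 7) (i : chevE7.Idx) : lev k i ≤ 2 := by
  rcases i with i | r
  · rw [lev_inl]; norm_num
  · rw [lev_inr hk]; exact ((chk_lev k hk).2.2.2 r r.2).1

theorem lev_two (hk : k < 7) {i : chevE7.Idx} (h : lev k i = 2) : i = Sum.inr (fI k) := by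
  rcases i with i | r
  · rw [lev_inl] at h; norm_num at h
  · rw [lev_inr hk] at h
    exact congrArg _ (Fin.ext (((chk_lev k hk).2.2.2 r r.2).2.1 h))

theorem lev_fI (hk : k < 7) : lev k (Sum.inr (fI k)) = 2 := (lev_inr hk _).trans (chk_lev k hk).2.1

theorem lev_EM (hk : k < 7) {r : ℕ} (hr : r < 126) {i j : chevE7.Idx} (h : EM K r i j ≠ 0) :
    lev k i = lev k j + lt k r := by
  rw [lev, EM_wt hr h, pc_add, chk_lt k hk r hr]; rfl

theorem lev_QM (hk : k < 7) {r : ℕ} (hr : r < 126) {i j : chevE7.Idx} (h : QM K r i j ≠ 0) :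
    lev k i = lev k j + 2 * lt k r := by
  rw [lev, QM_wt hr h, pc_add, pc_nsmul, chk_lt k hk r hr]; rfl

theorem bf_lev (k : ℕ) (i : chevE7.Idx) : bf (-rv (fr k)) (cv (ac i)) = -(lev k i : ℝ) := by
  rw [map_neg, LinearMap.neg_apply, bf_symm, bf_cv_rv _ (fr_lt k)]; rfl

theorem psi_iff (hk : k ≤ 7) {r : ℕ} (hr : r < 126) : psi k r = true ↔ ∀ j < k, pc (fr j) (rc r) = 0 := by
  simp only [psi, List.all_eq_true, List.mem_range, beq_iff_eq]
  exact forall₂_congr fun j hj => by rw [chk_lt j (by omega) r hr]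

/-- the support is orthogonal to the first `k` roots of the frame -/
def Sp (k : ℕ) (y : chevE7.Idx → K) : Prop := ∀ i, y i ≠ 0 → ∀ j < k, lev j i = 0

/-- the elements which fix the first `k` root vectors of the frame -/
def Fx (k : ℕ) (g : Gh K) : Prop := ∀ j < k, adM K g *ᵥ er K (fI j) = er K (fI j)

/-- the elements which are allowed in step `k` -/
def Ok (k : ℕ) (g : Gh K) : Prop := Fx k g ∧ ∀ y, Sp k y → Sp k (adM K g *ᵥ y)

theorem Fx.mul {g h : Gh K} (hg : Fx k g) (hh : Fx k h) : Fx k (g * h) := fun j hj => by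
  rw [mulVec_mul, hh j hj, hg j hj]

theorem Ok.mul {g h : Gh K} (hg : Ok k g) (hh : Ok k h) : Ok k (g * h) :=
  ⟨hg.1.mul hh.1, fun y hy => by rw [mulVec_mul]; exact hg.2 _ (hh.2 y hy)⟩

theorem ok_one : Ok k (1 : Gh K) :=
  ⟨fun j _ => by rw [map_one, one_mulVec], fun y hy => by rwa [map_one, one_mulVec]⟩

theorem ok_xs (hk : k ≤ 7) {r : ℕ} (hr : r < 126) (h : psi k r = true) (t : K) : Ok k (xs K r t) := by
  rw [psi_iff hk hr] at h
  refine ⟨fun j hj => ?_, fun y hy i hi j hj => ?_⟩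
  · have h1 := chk_orth j (by omega) r hr ((chk_lt j (by omega) r hr).symm.trans (h j hj))
    funext i
    have h2 : (EM K r *ᵥ er K (fI j)) i = 0 := by
      rw [er, mulVec_single_one, col_apply]
      rcases i with i | u
      · exact (EM_lr r i _).trans (if_neg h1.2)
      · rw [EM_rr, show cf r (fI j) u = 0 from cf_nil h1.1 _, Int.cast_zero]
    have h3 : (QM K r *ᵥ er K (fI j)) i = 0 := by
      rw [er, mulVec_single_one, col_apply]
      rcases i with i | u
      · rfl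
      · exact (QM_rr r u _).trans (if_neg h1.2)
    rw [xs_apply hr, h2, h3, mul_zero, mul_zero, add_zero, add_zero]
  · obtain ⟨i', h1, h2⟩ := exists_col hi
    obtain ⟨m, hm⟩ := wrep_L.root r hr t i i' h1
    rw [lev, hm, pc_add, pc_nsmul, h j hj, mul_zero, add_zero]
    exact hy i' h2 j hj

/-- a root of the support is moved to the root of the frame -/
theorem move [Infinite K] (hk : k < 7) (n : ℕ) : ∀ (r : Fin chevE7.nroots) (y : chevE7.Idx → K), 126 ≤ r.val + n →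
    comp k r = true → y (Sum.inr r) ≠ 0 → ∃ g, Ok k g ∧ (adM K g *ᵥ y) (Sum.inr (fI k)) ≠ 0 := by
  induction n with
  | zero => intro r _ h; exact absurd (show r.val < 126 from r.2) (by omega)
  | succ n ih =>
    intro r y hn hc hy
    rcases chk_move hk r.2 hc with h | ⟨i, hi, h1, h2, h3, h4, h5⟩
    · exact ⟨1, ok_one, by rwa [map_one, one_mulVec, ← show r = fI k from Fin.ext h]⟩
    have hs := simple7_lt i hi
    have h6 : Ok k (ns K ⟨i, hi⟩) := by
      rw [ns_eq]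
      exact ((ok_xs hk.le hs h1 _).mul (ok_xs hk.le (by omega) h2 _)).mul (ok_xs hk.le hs h1 _)
    have hm := (wrep_L (K := K)).mon_ns ⟨i, hi⟩
    have h7 : sr ⟨i, hi⟩ (rv r) = rv (chevE7.reflectRoot i r) := sr_rv ⟨i, hi⟩ r.2
    obtain ⟨g, hg, h8⟩ := ih ⟨_, h4⟩ (adM K (ns K ⟨i, hi⟩) *ᵥ y) (by show 126 ≤ chevE7.reflectRoot i r + n; omega) h5 (by
      rw [mulVec_one y (j := Sum.inr r) fun j' hj => eq_inr (by
        rw [← sr_sr ⟨i, hi⟩ (cv (ac j')), ← hm _ _ hj, ← sr_sr ⟨i, hi⟩ (rv r), h7]; rfl)]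
      obtain ⟨i', h9⟩ := exists_ne (adM K) (ns K ⟨i, hi⟩) (Sum.inr r)
      have h10 : i' = Sum.inr ⟨_, h4⟩ := eq_inr ((hm _ _ h9).trans h7)
      exact mul_ne_zero (h10 ▸ h9) hy)
    exact ⟨g * ns K ⟨i, hi⟩, hg.mul h6, by rwa [mulVec_mul]⟩

theorem xs_low (hk : k < 7) {r : ℕ} (hr : r < 126) (t : K) (y : chevE7.Idx → K) {i : chevE7.Idx} (h : lt k r < 0)
    (h2 : 2 < lev k i - lt k r) : (adM K (xs K r t) *ᵥ y) i = y i := by
  rw [xs_apply hr, mulVec_none y fun j hj => ?_, mulVec_none y fun j hj => ?_, mul_zero, mul_zero, add_zero, add_zero]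
  · have := lev_QM hk hr hj; have := lev_le hk j; omega
  · have := lev_EM hk hr hj; have := lev_le hk j; omega

theorem xs_one (hk : k < 7) {r : ℕ} (hr : r < 126) (t : K) (y : chevE7.Idx → K) {s : Fin chevE7.nroots}
    (h : lt k r = -1) (h1 : lev k (Sum.inr s) = 1) :
    (adM K (xs K r t) *ᵥ y) (Sum.inr s) = y (Sum.inr s) + t * ((cf r (fr k) s : ℤ) * y (Sum.inr (fI k))) := by
  rw [xs_apply hr, mulVec_one y (j := Sum.inr (fI k)) fun j hj => lev_two hk ?_, mulVec_none y fun j hj => ?_,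
    mul_zero, add_zero]
  · rfl
  · have := lev_QM hk hr hj; have := lev_le hk j; omega
  · have := lev_EM hk hr hj; omega

/-- level one is killed -/
theorem kill_one (hk : k < 7) {y : chevE7.Idx → K} (hy : Sp k y) (h0 : y (Sum.inr (fI k)) ≠ 0) (n : ℕ) :
    ∃ g, Ok k g ∧ (adM K g *ᵥ y) (Sum.inr (fI k)) ≠ 0 ∧
      ∀ r : Fin chevE7.nroots, r.val < n → lev k (Sum.inr r) = 1 → (adM K g *ᵥ y) (Sum.inr r) = 0 := by
  induction n with
  | zero => exact ⟨1, ok_one, by rwa [map_one, one_mulVec], fun r hr => absurd hr (Nat.not_lt_zero _)⟩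
  | succ n ih =>
    obtain ⟨g, hg, h1, h2⟩ := ih
    by_cases hc : ∃ r : Fin chevE7.nroots, r.val = n ∧ lev k (Sum.inr r) = 1 ∧ (adM K g *ᵥ y) (Sum.inr r) ≠ 0
    · obtain ⟨r, rfl, h3, h4⟩ := hc
      obtain ⟨hd, h5, h6⟩ := chk_one k hk r r.2 ((psi_iff hk.le r.2).2 (hg.2 y hy _ h4)) ((lev_inr hk r).symm.trans h3)
      obtain ⟨d, hd'⟩ : ∃ d, d = sm (125 - fr k) r := ⟨_, rfl⟩
      rw [← hd'] at hd h5 h6
      have h7 : lt k d = -1 := by
        have e := congrArg (pc (fr k)) (cf_rc hd (fr_lt k) r.2 h6)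
        rw [pc_add, chk_lt k hk d hd, chk_lt k hk _ (fr_lt k), (chk_lev k hk).2.1, show pc (fr k) (rc r) = 1 from h3] at e
        omega
      have h8 := mul_ne_zero (cf_cast (K := K) hd h6) h1
      refine ⟨xs K d (-(adM K g *ᵥ y) (Sum.inr r) / ((cf d (fr k) r : ℤ) * (adM K g *ᵥ y) (Sum.inr (fI k)))) * g,
        (ok_xs hk.le hd h5 _).mul hg, ?_, fun s hs h9 => ?_⟩
      · rwa [mulVec_mul, xs_low hk hd _ _ (by omega) (by rw [lev_fI hk]; omega)]
      · rw [mulVec_mul, xs_one hk hd _ _ h7 h9]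
        by_cases e : s = r
        · rw [e, div_mul_cancel₀ _ h8, add_neg_cancel]
        · have e' : r.val ≠ s.val := fun e' => e (Fin.ext e'.symm)
          rw [h2 s (by omega) h9, cf_cons (cf_ne hd h6) s, if_neg e', Int.cast_zero, zero_mul, mul_zero, add_zero]
    · refine ⟨g, hg, h1, fun r hr h3 => ?_⟩
      by_cases e : r.val = n
      · exact of_not_not fun h4 => hc ⟨r, e, h3, h4⟩
      · exact h2 r (by omega) h3

/-- the opposite root is killed -/
theorem kill_two [IsAlgClosed K] (hk : k < 7) {y : chevE7.Idx → K} (h0 : y (Sum.inr (fI k)) ≠ 0) :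
    ∃ g, Ok k g ∧ (∀ i, 0 < lev k i → (adM K g *ᵥ y) i = y i) ∧ (adM K g *ᵥ y) (Sum.inr (ng (fI k))) = 0 := by
  have hr : 125 - fr k < 126 := by omega
  obtain ⟨s, hs⟩ := IsAlgClosed.exists_root (Polynomial.C (-y (Sum.inr (fI k))) * Polynomial.X ^ 2 +
    Polynomial.C ((EM K (125 - fr k) *ᵥ y) (Sum.inr (ng (fI k)))) * Polynomial.X + Polynomial.C (y (Sum.inr (ng (fI k)))))
    (by rw [Polynomial.degree_quadratic (neg_ne_zero.2 h0)]; norm_num)
  have h1 := (chk_lev k hk).2.2.1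
  refine ⟨xs K (125 - fr k) s, ok_xs hk.le hr (chk_lev k hk).1 s, fun i hi => xs_low hk hr s y (by omega) (by omega), ?_⟩
  have h2 : ng (ng (fI k)) = fI k := Fin.ext (by have := fr_lt k; show 125 - (125 - fr k) = fr k; omega)
  have h3 : QM K (125 - fr k) *ᵥ y = _ := QM_mulVec (r := ng (fI k)) y
  rw [xs_apply hr, h3, h2, Pi.smul_apply, er, Pi.single_eq_same, smul_eq_mul]
  simp only [Polynomial.IsRoot.def, Polynomial.eval_add, Polynomial.eval_mul, Polynomial.eval_C, Polynomial.eval_pow,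
    Polynomial.eval_X] at hs
  linear_combination hs

theorem sq_er (h2 : (2 : K) = 0) (r : Fin chevE7.nroots) : P2.sq K (er K r) = 0 := by
  rw [P2.sq_eq_zero h2, show del K (er K r) = NM K r from R2.PX.del_inr r, R2.PX.NM_mul_self r.2]

/-- the root of the frame is peeled off -/
theorem peel_off [Infinite K] (h2 : (2 : K) = 0) (hk : k < 7) {z : chevE7.Idx → K} (hz : Sp k z) (hs : P2.sq K z = 0)
    (h0 : z (Sum.inr (fI k)) ≠ 0) (h1 : ∀ r : Fin chevE7.nroots, lev k (Sum.inr r) = 1 → z (Sum.inr r) = 0)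
    (hn : z (Sum.inr (ng (fI k))) = 0) :
    ∃ y, z = z (Sum.inr (fI k)) • er K (fI k) + y ∧ Sp (k + 1) y ∧ P2.sq K y = 0 := by
  obtain ⟨c, hc⟩ : ∃ c, c = z (Sum.inr (fI k)) := ⟨_, rfl⟩
  obtain ⟨y, hy⟩ : ∃ y, y = z - c • er K (fI k) := ⟨_, rfl⟩
  have e1 : z = c • er K (fI k) + y := by rw [hy, add_sub_cancel]
  have e2 : ∀ i, y i ≠ 0 → i ≠ Sum.inr (fI k) ∧ z i ≠ 0 := fun i hi => by
    have h3 : i ≠ Sum.inr (fI k) := fun e => hi (by
      rw [hy, e, Pi.sub_apply, Pi.smul_apply, er, Pi.single_eq_same, smul_eq_mul, mul_one, hc, sub_self])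
    rw [hy, Pi.sub_apply, Pi.smul_apply, er, Pi.single_eq_of_ne h3, smul_zero, sub_zero] at hi
    exact ⟨h3, hi⟩
  have e3 : ∀ i, y i ≠ 0 → lev k i ≤ 0 := fun i hi => by
    have h3 := lev_le hk i
    have h4 : lev k i ≠ 2 := fun e => (e2 i hi).1 (lev_two hk e)
    rcases i with i | r
    · exact (lev_inl k i).le
    · have h5 : lev k (Sum.inr r) ≠ 1 := fun e => (e2 _ hi).2 (h1 r e)
      omega
  have e4 : P2.sq K y ∈ Ge K ac (-rv (fr k)) (0 + 0) := P2.sq_Ge h2 fun i hi => by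
    rw [bf_lev, neg_nonneg]; exact_mod_cast e3 i hi
  have e5 : P2.sq K y = -(c • EM K (fr k) *ᵥ y) := by
    rw [e1, P2.sq_add h2, P2.sq_smul h2, sq_er h2, smul_zero, zero_add, map_smul, LinearMap.smul_apply, br_er] at hs
    exact eq_neg_of_add_eq_zero_left hs
  have e6 : ∀ i, 0 < lev k i → (EM K (fr k) *ᵥ y) i = 0 := fun i hi => of_not_not fun e => by
    have h3 := e4 i (by
      rw [e5, Pi.neg_apply, Pi.smul_apply, smul_eq_mul]
      exact neg_ne_zero.2 (mul_ne_zero (hc ▸ h0) e))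
    rw [bf_lev, add_zero, neg_nonneg] at h3
    exact absurd (show lev k i ≤ 0 by exact_mod_cast h3) (not_le.2 hi)
  have e7 : ∀ i, y i ≠ 0 → lev k i = 0 := fun i hi => by
    rcases i with i | r
    · exact lev_inl k i
    have h3 := e3 _ hi
    have h4 : ¬ lt k r ≤ -2 := fun e => (e2 _ hi).2 (by
      rw [show r = ng (fI k) from Fin.ext (((chk_lev k hk).2.2.2 r r.2).2.2.1 e), hn])
    have h5 : lt k r ≠ -1 := fun e => by
      obtain ⟨h6, h7⟩ := chk_mone k hk r r.2 e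
      have h8 := cf_rc (fr_lt k) r.2 h6 h7
      have h9 := e6 (Sum.inr ⟨_, h6⟩) (by
        show 0 < pc (fr k) (rc (sm (fr k) r))
        rw [h8, pc_add, chk_lt k hk r r.2, chk_lt k hk _ (fr_lt k), (chk_lev k hk).2.1, e]; norm_num)
      rw [mulVec_one y (j := Sum.inr r) fun j hj => eq_inr (congrArg cv (by
        have h10 : rc (sm (fr k) r) = _ := EM_wt (fr_lt k) hj
        rw [h8] at h10
        exact (add_right_cancel h10).symm))] at h9
      exact mul_ne_zero (cf_cast (fr_lt k) h7) hi h9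
    rw [lev_inr hk] at h3 ⊢
    omega
  refine ⟨y, hc ▸ e1, fun i hi j hj => ?_, ?_⟩
  · by_cases e : j = k
    · exact e ▸ e7 i hi
    · exact hz i (e2 i hi).2 j (by omega)
  · have h3 : EM K (fr k) *ᵥ y = 0 := funext fun i => of_not_not fun e => by
      obtain ⟨j, h4, h5⟩ := exists_col e
      refine e (e6 i ?_)
      rw [lev_EM hk (fr_lt k) h4, e7 j h5, (chk_lev k hk).2.1]; norm_num
    rw [e5, h3, smul_zero, neg_zero]

theorem eq_zero_of_top (h2 : (2 : K) = 0) {y : chevE7.Idx → K} (hy : Sp 7 y) (hs : P2.sq K y = 0) : y = 0 := by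
  have h1 : y = tv fun i => y (Sum.inl i) := by
    funext i
    rcases i with i | r
    · rfl
    · exact of_not_not fun e => Bool.false_ne_true ((chk_top r r.2).symm.trans ((psi_iff le_rfl r.2).2 (hy _ e)))
  rw [P2.sq_eq_zero h2, h1, La.del_tv, diagonal_mul_diagonal, ← diagonal_zero, diagonal_eq_diagonal_iff] at hs
  refine Mu.del_inj ?_
  rw [h1, La.del_tv, ← diagonal_zero, diagonal_eq_diagonal_iff]
  exact fun a => mul_self_eq_zero.1 (hs a)

/-- the support lies in the frame -/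
def OnF (z : chevE7.Idx → K) : Prop := ∀ i, z i ≠ 0 → ∃ j < 7, i = Sum.inr (fI j)

theorem peel_aux [IsAlgClosed K] (h2 : (2 : K) = 0) (m : ℕ) : ∀ k, k + m = 7 → ∀ y : chevE7.Idx → K, Sp k y →
    P2.sq K y = 0 → ∃ g, Fx k g ∧ OnF (adM K g *ᵥ y) := by
  induction m with
  | zero =>
    rintro k rfl y hy hs
    exact ⟨1, ok_one.1, fun i hi => absurd (by rw [eq_zero_of_top h2 hy hs, mulVec_zero, Pi.zero_apply]) hi⟩
  | succ m ih =>
    intro k hm y hy hs
    have hk : k < 7 := by omega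
    by_cases h : ∀ i, y i ≠ 0 → lev k i = 0
    · obtain ⟨g, hg, h1⟩ := ih (k + 1) (by omega) y (fun i hi j hj => by
        by_cases e : j = k
        · exact e ▸ h i hi
        · exact hy i hi j (by omega)) hs
      exact ⟨g, fun j hj => hg j (by omega), h1⟩
    obtain ⟨i, hi⟩ := not_forall.1 h
    obtain ⟨h0, h1⟩ := Classical.not_imp.1 hi
    rcases i with i | r
    · exact absurd (lev_inl k i) h1
    obtain ⟨g1, o1, a1⟩ := move hk 126 r y (by omega) (((chk_lev k hk).2.2.2 r r.2).2.2.2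
      ((psi_iff hk.le r.2).2 (hy _ h0)) (lev_inr hk r ▸ h1)) h0
    obtain ⟨g2, o2, a2, b2⟩ := kill_one hk (o1.2 y hy) a1 126
    obtain ⟨g3, o3, a3, b3⟩ := kill_two hk a2
    obtain ⟨y1, e1, s1, q1⟩ := peel_off h2 hk (o3.2 _ (o2.2 _ (o1.2 y hy)))
      (by rw [← P2.adM_sq h2, ← P2.adM_sq h2, ← P2.adM_sq h2, hs, mulVec_zero, mulVec_zero, mulVec_zero])
      (by rwa [a3 _ (by rw [lev_fI hk]; norm_num)]) (fun s hs => by rw [a3 _ (by omega), b2 s s.2 hs]) b3
    obtain ⟨g4, o4, a4⟩ := ih (k + 1) (by omega) y1 s1 q1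
    refine ⟨g4 * (g3 * (g2 * g1)), Fx.mul (fun j hj => o4 j (by omega)) (o3.mul (o2.mul o1)).1, fun i hi => ?_⟩
    rw [mulVec_mul, mulVec_mul, mulVec_mul, e1, mulVec_add, mulVec_smul, o4 k (by omega), Pi.add_apply] at hi
    by_cases e : i = Sum.inr (fI k)
    · exact ⟨k, hk, e⟩
    · rw [Pi.smul_apply, er, Pi.single_eq_of_ne e, smul_zero, zero_add] at hi
      exact a4 i hi

/-- **elements of square zero are conjugate into the span of the frame** -/
theorem peel0 [IsAlgClosed K] (h2 : (2 : K) = 0) {x : chevE7.Idx → K} (hx : del K x * del K x = 0) :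
    ∃ g, OnF (adM K g *ᵥ x) := by
  obtain ⟨g, -, h⟩ := peel_aux h2 7 0 rfl x (fun _ _ j hj => absurd hj (Nat.not_lt_zero j)) ((P2.sq_eq_zero h2).2 hx)
  exact ⟨g, h⟩

end Cfsg.Agent.E7P.Pe

private theorem dce_804350d15d90 : _root_.True := by
  try have : _root_.True := by simp only [_root_.Cfsg.Agent.E7P.Pe.psi.eq_1]
  try have : _root_.True := by simp only [_root_.Cfsg.Agent.E7P.Pe.lev.eq_1]
  exact _root_.True.intro
end

-- part: E7P/P2/Peel
section
set_option linter.all false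
open scoped Cfsg.Agent.FastGrp

/-!
# S5932, `p = 2`, PEEL (helper5): the five normal forms of the elements of square zero

`peel` : if `x ≠ 0` and `del x * del x = 0` then `x` is conjugate to `xB K (BB j)`.
-/

set_option autoImplicit false
set_option maxRecDepth 100000

namespace Cfsg.Agent.E7P.Pe

open Cfsg Cfsg.Lie Matrix Module
open Cfsg.Agent.H943.E7V.Block (D1 rho)
open Cfsg.Agent.R2.T1 Cfsg.Agent.E7P.Kf Cfsg.Agent.E7P.Br
open Cfsg.Agent.R2.PX (del)
open Cfsg.Agent.ChevalleyStructure.RootVec (rt)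

universe u

variable {K : Type u} [Field K]

variable (K) in
/-- the sum of the root vectors with numbers in `B` -/
def xB (B : List ℕ) : chevE7.Idx → K := Sum.elim (fun _ => 0) fun r : Fin chevE7.nroots => if r.val ∈ B then 1 else 0

theorem xB_inr (B : List ℕ) (r : Fin chevE7.nroots) : xB K B (Sum.inr r) = if r.val ∈ B then 1 else 0 := rfl

/-- the coefficients are made `0` or `1` by the torus -/
theorem norm_aux [IsAlgClosed K] {z : chevE7.Idx → K} (hz : OnF z) (n : ℕ) (hn : n ≤ 7) :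
    ∃ g, OnF (adM K g *ᵥ z) ∧ ∀ j < n, (adM K g *ᵥ z) (Sum.inr (fI j)) ≠ 0 → (adM K g *ᵥ z) (Sum.inr (fI j)) = 1 := by
  induction n with
  | zero => exact ⟨1, by rwa [map_one, one_mulVec], fun j hj => absurd hj (Nat.not_lt_zero j)⟩
  | succ n ih =>
    obtain ⟨g, h1, h2⟩ := ih (by omega)
    by_cases h0 : (adM K g *ᵥ z) (Sum.inr (fI n)) = 0
    · refine ⟨g, h1, fun j hj h3 => ?_⟩
      by_cases e : j = n
      · exact absurd (e ▸ h0) h3
      · exact h2 j (by omega) h3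
    obtain ⟨s, hs⟩ := IsAlgClosed.exists_eq_mul_self ((adM K g *ᵥ z) (Sum.inr (fI n)))⁻¹
    have hs0 : s ≠ 0 := fun e => inv_ne_zero h0 (by rw [hs, e, mul_zero])
    have h3 : ∀ i, (adM K (Phi K (lam (fun t => rt chevE7 (fr n) t) (Units.mk0 s hs0)) * g) *ᵥ z) i =
        s ^ lev n i * (adM K g *ᵥ z) i := fun i => by
      rw [mulVec_mul, wrep_L.tor, mulVec_diagonal]
      congr 1
      refine (congrArg Units.val (ch_lam (ac i) (fun t => rt chevE7 (fr n) t) (Units.mk0 s hs0))).trans ?_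
      rw [Units.val_zpow_eq_zpow_val, Units.val_mk0]
      exact congrArg _ (Finset.sum_congr rfl fun t _ => mul_comm _ _)
    refine ⟨_, fun i hi => h1 i (right_ne_zero_of_mul (h3 i ▸ hi)), fun j hj h4 => ?_⟩
    rw [h3] at h4 ⊢
    by_cases e : j = n
    · rw [e, lev_fI (by omega), zpow_two, ← hs, inv_mul_cancel₀ h0]
    · rw [h2 j (by omega) (right_ne_zero_of_mul h4), lev_inr (by omega),
        show lt n (fI j) = 0 from chk_fr n (by omega) j (by omega) e, zpow_zero, one_mul]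

theorem mem_frL {r : ℕ} : r ∈ frL ↔ ∃ j < 7, r = fr j := by
  refine ⟨fun h => ?_, ?_⟩
  · obtain ⟨j, hj, rfl⟩ := List.getElem_of_mem h
    exact ⟨j, hj, (List.getD_eq_getElem _ _ hj).symm⟩
  · rintro ⟨j, hj, rfl⟩
    rw [fr, List.getD_eq_getElem _ _ hj]
    exact List.getElem_mem _

theorem peel1 [IsAlgClosed K] (h2 : (2 : K) = 0) {x : chevE7.Idx → K} (hx : del K x * del K x = 0) :
    ∃ g, ∃ B ∈ frL.sublists, adM K g *ᵥ x = xB K B := by
  classical
  obtain ⟨g, h⟩ := peel0 h2 hx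
  obtain ⟨g', h1, h3⟩ := norm_aux h 7 le_rfl
  rw [← mulVec_mul] at h1 h3
  refine ⟨g' * g, frL.filter fun r => ∃ hr : r < 126, (adM K (g' * g) *ᵥ x) (Sum.inr ⟨r, hr⟩) ≠ 0,
    List.mem_sublists.2 List.filter_sublist, funext fun i => ?_⟩
  rcases i with i | r
  · exact of_not_not fun e => by
      obtain ⟨j, -, h4⟩ := h1 _ e
      cases h4
  rw [xB_inr]
  by_cases e : (adM K (g' * g) *ᵥ x) (Sum.inr r) = 0
  · rw [e, if_neg fun h4 => ?_]
    obtain ⟨_, h5⟩ := of_decide_eq_true (List.mem_filter.1 h4).2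
    exact h5 e
  · obtain ⟨j, hj, h4⟩ := h1 _ e
    cases h4
    rw [h3 j hj e]
    refine (if_pos (List.mem_filter.2 ⟨mem_frL.2 ⟨j, hj, rfl⟩, ?_⟩)).symm
    exact decide_eq_true ⟨fr_lt j, e⟩

variable (K) in
/-- a root vector -/
def bv (k : ℕ) : chevE7.Idx → K := xB K [k]

variable (K) in
/-- a sum of root vectors -/
def vs (l : List ℕ) : chevE7.Idx → K := (l.map (bv K)).sum

theorem vs_cons (k : ℕ) (l : List ℕ) : vs K (k :: l) = bv K k + vs K l := rfl

theorem vs_perm {l l' : List ℕ} (h : l.Perm l') : vs K l = vs K l' := (h.map _).sum_eq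

theorem bv_eq (r : Fin chevE7.nroots) : bv K r = er K r := by
  funext i
  rcases i with i | s
  · rw [er, Pi.single_eq_of_ne Sum.inl_ne_inr]; rfl
  · rw [bv, xB_inr, er]
    by_cases e : s = r
    · rw [e, Pi.single_eq_same, if_pos (List.mem_singleton.2 rfl)]
    · rw [Pi.single_eq_of_ne fun e' => e (Sum.inr.inj e'), if_neg fun e' => e (Fin.ext (List.mem_singleton.1 e'))]

theorem vs_eq {l : List ℕ} (h : l.Nodup) : vs K l = xB K l := by
  induction l with
  | nil => funext i; rcases i with i | s <;> rfl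
  | cons k l ih =>
    rw [List.nodup_cons] at h
    rw [vs_cons, ih h.2]
    funext i
    rcases i with i | s
    · exact add_zero _
    · rw [Pi.add_apply, bv, xB_inr, xB_inr, xB_inr]
      by_cases e : s.val = k
      · rw [if_pos (List.mem_singleton.2 e), if_neg (e ▸ h.1), if_pos (List.mem_cons.2 (Or.inl e)), add_zero]
      · rw [if_neg fun e' => e (List.mem_singleton.1 e'), zero_add]
        exact if_congr (by rw [List.mem_cons, or_iff_right e]) rfl rfl

theorem vs_tog (h2 : (2 : K) = 0) (k : ℕ) (l : List ℕ) : vs K (tog k l) = bv K k + vs K l := by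
  unfold tog
  split_ifs with h
  · rw [vs_perm (List.perm_cons_erase h), vs_cons, ← add_assoc, ← two_smul K, h2, zero_smul, zero_add]
  · rfl

theorem vs_foldr (h2 : (2 : K) = 0) (l acc : List ℕ) : vs K (l.foldr tog acc) = vs K l + vs K acc := by
  induction l with
  | nil => exact (zero_add _).symm
  | cons k l ih => rw [List.foldr_cons, vs_tog h2, ih, vs_cons, add_assoc]

theorem xs_bv (h2 : (2 : K) = 0) {r k : ℕ} (hr : r < 126) (hk : k < 126) (h : k ≠ 125 - r) :
    adM K (xs K r 1) *ᵥ bv K k = bv K k + vs K ((F7 r k).map Prod.fst) := by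
  have h1 : bv K k = er K ⟨k, hk⟩ := bv_eq ⟨k, hk⟩
  have h3 : QM K r *ᵥ er K ⟨k, hk⟩ = 0 := by
    rw [show QM K r *ᵥ er K ⟨k, hk⟩ = _ from QM_mulVec (r := ⟨r, hr⟩) _, er,
      Pi.single_eq_of_ne fun e => h (congrArg Fin.val (Sum.inr.inj e)).symm, neg_zero, zero_smul]
  rw [adM_xs hr, add_mulVec, add_mulVec, one_mulVec, smul_mulVec, smul_mulVec, h1, h3, smul_zero, add_zero, one_smul]
  congr 1
  rcases F7_cases hr k with h4 | ⟨u, c, h4, -, hu, h5, -⟩
  · rw [h4]
    funext i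
    rw [er, mulVec_single_one, col_apply]
    rcases i with i | u
    · exact (EM_lr r i _).trans (if_neg h)
    · rw [EM_rr, show cf r (⟨k, hk⟩ : Fin chevE7.nroots) u = 0 from cf_nil h4 _, Int.cast_zero]; rfl
  · have h6 : ((c : ℤ) : K) = 1 := by
      rcases Int.eq_one_or_neg_one_of_mul_eq_one h5 with e | e
      · rw [e, Int.cast_one]
      · rw [e, Int.cast_neg, Int.cast_one, P2.neg_eq h2]
    rw [EM_er ⟨k, hk⟩ ⟨u, hu⟩ h4 hr, h4, h6, one_smul, ← bv_eq]
    exact (add_zero _).symm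

theorem xs_vs (h2 : (2 : K) = 0) {r : ℕ} (hr : r < 126) {l : List ℕ} (h : 125 - r ∉ l) (h' : ∀ k ∈ l, k < 126) :
    adM K (xs K r 1) *ᵥ vs K l = vs K (act r l) := by
  induction l with
  | nil => exact mulVec_zero _
  | cons k l ih =>
    rw [List.mem_cons, not_or] at h
    rw [vs_cons, mulVec_add, ih h.2 fun k hk => h' k (List.mem_cons_of_mem _ hk),
      xs_bv h2 hr (h' k List.mem_cons_self) (Ne.symm h.1), add_assoc, ← vs_foldr h2, ← vs_tog h2]
    rfl

theorem run_vs (h2 : (2 : K) = 0) : ∀ (w l l' : List ℕ), run w l = some l' → ∃ g, adM K g *ᵥ vs K l = vs K l'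
  | [], l, l', h => ⟨1, by rw [map_one, one_mulVec, Option.some.inj h]⟩
  | r :: w, l, l', h => by
    unfold run at h
    split_ifs at h with h1
    obtain ⟨g, hg⟩ := run_vs h2 w _ _ h
    exact ⟨g * xs K r 1, by rw [mulVec_mul, xs_vs h2 h1.1 h1.2.1 h1.2.2, hg]⟩

theorem BB_nodup : ∀ j, (BB j).Nodup := by decide

/-- **PEEL** -/
theorem peel [IsAlgClosed K] (h2 : (2 : K) = 0) {x : chevE7.Idx → K} (h0 : x ≠ 0) (hx : del K x * del K x = 0) :
    ∃ g j, adM K g *ᵥ x = xB K (BB j) := by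
  obtain ⟨g, B, hB, h⟩ := peel1 h2 hx
  have h1 := List.all_eq_true.1 chk_cover B hB
  rw [Bool.or_eq_true, List.isEmpty_iff, List.any_eq_true] at h1
  rcases h1 with rfl | ⟨e, he, h1⟩
  · exact absurd (by rw [← mulVec_inv (adM K) g x, h, ← vs_eq List.nodup_nil]; exact mulVec_zero _) h0
  have h3 := List.all_eq_true.1 chk_WD e he
  rw [beq_iff_eq.1 h1] at h3
  rcases hr : run e.2.2 B with _ | l
  · rw [hr] at h3; exact absurd h3 Bool.false_ne_true
  rw [hr] at h3
  obtain ⟨g', hg⟩ := run_vs h2 _ _ _ hr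
  refine ⟨g' * g, e.2.1, ?_⟩
  rw [mulVec_mul, h, ← vs_eq ((List.mem_sublists.1 hB).nodup (by decide)), hg, vs_perm (List.isPerm_iff.1 h3),
    vs_eq (BB_nodup _)]

theorem chk_BB : ∀ j, (BB j).toFinset.card ≤ 4 ∧ (∀ r ∈ BB j, r < 126) ∧
    ∀ r ∈ BB j, ∀ s ∈ BB j, r ≠ s → pc r (rc s) = 0 := by decide +kernel

/-- the elements of square zero are sufficiently unstable -/
theorem nv [IsAlgClosed K] (h2 : (2 : K) = 0) : P2.NV K := fun x h0 hx => by
  obtain ⟨g, j, h⟩ := peel h2 h0 hx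
  refine ⟨g, P2.nv_of_orth (BB j).toFinset (fun r hr => (chk_BB j).2.1 r (List.mem_toFinset.1 hr)) (chk_BB j).1
    (fun r hr s hs => (chk_BB j).2.2 r (List.mem_toFinset.1 hr) s (List.mem_toFinset.1 hs)) fun i hi => ?_⟩
  rw [h] at hi
  rcases i with i | r
  · exact absurd rfl hi
  · exact ⟨r, rfl, List.mem_toFinset.2 (of_not_not fun e => hi (if_neg e))⟩

end Cfsg.Agent.E7P.Pe

private theorem dce_c7e14cadf799 : _root_.True := by
  try have : _root_.True := by simp only [_root_.Cfsg.Agent.E7P.Pe.run.eq_def]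
  try have : _root_.True := by simp only [_root_.Cfsg.Agent.E7P.Pe.bv.eq_1]
  exact _root_.True.intro
end

-- part: E7P/P2/HbTwo
section
set_option linter.all false

/-!
# S5932, `p = 2`: Case 2 is impossible; `BoxTwo` from Case 1 (helper92)
-/

set_option autoImplicit false

namespace Cfsg.Agent.E7P

open Cfsg Cfsg.Lie Matrix
open Cfsg.Agent.R2.PX (del)

universe u v

theorem Hb.peel {K : Type u} [Field K] [IsAlgClosed K] (h2 : (2 : K) = 0) : Hb.PEEL K := fun x h0 hx => by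
  obtain ⟨g, j, h⟩ := Pe.peel h2 h0 hx
  refine ⟨g, Pe.BB j, (by decide : ∀ j, Pe.BB j ∈ Hb.BL) j, h.trans (funext fun a => ?_)⟩
  rcases a with i | r <;> rfl

/-- **Case 2 is impossible** -/
theorem Sit.hb_not_fixZ {p a b : ℕ} {F : Type u} {K : Type v} {k : Type u} [Field F] [Fintype F] [Field K] [Fintype K]
    [Field k] (S : Sit p a b F K k) (hp : p = 2) : ¬ S.FixZ :=
  have := S.closed
  S.hb_case2 hp (Hb.peel (S.two hp))

/-- Case 1 -/
def Hb.Case1 : Prop := ∀ (p a b : ℕ) (F : Type u) (K : Type v) (k : Type u) [Field F] [Fintype F] [Field K] [Fintype K]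
  [Field k] (S : Sit p a b F K k), p = 2 → (∀ y ∈ S.C, IsNilpotent (del k y) → y = 0) → S.FixZ

theorem boxTwo_of (h : Hb.Case1.{u, v}) : BoxTwo.{u, v} := by
  intro p a b F K k _ _ _ _ _ S hp
  have := S.closed
  exact (S.hb_not_fixZ hp (h p a b F K k S hp fun _ hy => S.nil2 hp (Pe.nv (S.two hp)) hy)).elim

end Cfsg.Agent.E7P
end

-- part: E7P/P2/Two
section
set_option linter.all false

/-!
# S5932: the box `p = 2` (helper23)
-/

set_option autoImplicit false

namespace Cfsg.Agent.E7P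

universe u v

/-- **`p = 2` does not occur** -/
theorem boxTwo : BoxTwo.{u, v} := boxTwo_of fun _ _ _ _ _ _ _ _ _ _ _ S hp h => S.fixZ_of hp h

end Cfsg.Agent.E7P
end

-- part: E7P/Ag/SeB
section
prune_inst 0x74607544658000080018051272002466ec000402004b8c008d400f040fc9ae632d032e61b770001b88b280cc683984481100013042a000002a3c04004139058100d31202b118ec1d56009681180c400000008040000000000000000000000000000400000
set_option linter.all false
open scoped Cfsg.Agent.FastGrp

/-!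
# S5932, task ALG-6 (2): the graph of the action on the sections (helper33)

* `Md` : a family of models; `Md.J` : the slots which occur; `Md.Γ` : the graph;
* `Md.res, inj, cj, ker` : its properties; `exists_md` : a complete family.
-/

set_option autoImplicit false
set_option linter.unusedSectionVars false

namespace Cfsg.Agent.E7P.Se

open Matrix Module Cfsg.Agent.H943.SL2Rel Cfsg.Agent.H943.SL2Mod Cfsg.Agent.H943.RepAdd Cfsg.Agent.R2.H28.SL2
open Cfsg.Agent.E7P.Alm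

universe u w

variable {k : Type u} [Field k] [DecidableEq k] {F : Type*} [Field F] [Fintype F] [DecidableEq F] (ι : F →+* k)
  (p a : ℕ) [Fact p.Prime] [CharP k p] [CharP F p] {n : ℕ} {V : Fin n → Type w} [∀ b, AddCommGroup (V b)]
  [∀ b, Module k (V b)]

/-- a family of models -/
structure Md (ρ : ∀ b, Representation k (SpecialLinearGroup (Fin 2) F) (V b)) where
  v : ∀ b, ℕ → V b
  R : ∀ b, (Fin a → SpecialLinearGroup (Fin 2) k) →* Module.End k (V b)
  lt : ∀ b : Fin n, (b : ℕ) < p ^ a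
  bas : ∀ b, Bas ι (ρ b) b (v b)
  mod : ∀ b, Mod ι p (ρ b) b (v b) (R b)

variable {ι} {G : Type*} [Group G] {E : Type u} [AddCommGroup E] [Module k E] [FiniteDimensional k E]
  (L : Representation k G E) (ψ : SpecialLinearGroup (Fin 2) F →* G) (W : Submodule k E)
  (ρ : ∀ b, Representation k (SpecialLinearGroup (Fin 2) F) (V b))

/-- the slots which occur -/
def Oc (x : Fin n × Fin a) : Prop := dg p x.1 x.2 ≠ 0 ∧ ∃ X π, Sc L ψ W X π (ρ x.1)

open Classical in
/-- extension by `1` -/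
noncomputable def ex (b : Fin n) : ({x // Oc p a L ψ W ρ x} → SpecialLinearGroup (Fin 2) k) →*
    (Fin a → SpecialLinearGroup (Fin 2) k) where
  toFun γ j := if h : Oc p a L ψ W ρ (b, j) then γ ⟨_, h⟩ else 1
  map_one' := funext fun j => by split_ifs <;> rfl
  map_mul' γ γ' := funext fun j => by
    rw [Pi.mul_apply]
    split_ifs
    · rfl
    · exact (mul_one 1).symm

variable {p a ρ} (M : Md ι p a ρ)

namespace Md

/-- the graph of the action on the sections -/
def Γ : Subgroup (G × ({x // Oc p a L ψ W ρ x} → SpecialLinearGroup (Fin 2) k)) where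
  carrier := {q | ∀ b X π, Sc L ψ W X π (ρ b) → Act L X π q.1 (M.R b (ex p a L ψ W ρ b q.2))}
  one_mem' := fun b X π _ => by rw [Prod.snd_one, map_one, map_one]; exact Act.one
  mul_mem' := fun hq hq' b X π h => by rw [Prod.snd_mul, map_mul, map_mul]; exact (hq b X π h).mul (hq' b X π h)
  inv_mem' := fun hq b X π h => (hq b X π h).inv (by rw [← map_mul, ← map_mul, Prod.snd_inv, inv_mul_cancel, map_one, map_one])

variable {L ψ W}

theorem ex_eq {b : Fin n} {X : Submodule k E} {π : E →ₗ[k] V b} (hs : Sc L ψ W X π (ρ b))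
    {γ : {x // Oc p a L ψ W ρ x} → SpecialLinearGroup (Fin 2) k} {γ' : Fin a → SpecialLinearGroup (Fin 2) k}
    (h : ∀ j (hj : Oc p a L ψ W ρ (b, j)), γ ⟨_, hj⟩ = γ' j) : M.R b (ex p a L ψ W ρ b γ) = M.R b γ' :=
  mod_congr (M.mod b) (M.bas b) fun j hj => (dif_pos ⟨hj, X, π, hs⟩).trans (h j _)

theorem res (g : SpecialLinearGroup (Fin 2) F) :
    (ψ g, fun j => SpecialLinearGroup.map (fr ι p j.1.2) g) ∈ M.Γ L ψ W := fun b X π h => by
  rw [M.ex_eq h (γ' := fun j => SpecialLinearGroup.map (fr ι p j) g) fun _ _ => rfl, ← (M.mod b).res]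
  exact h.act g

theorem inj (x : {x // Oc p a L ψ W ρ x} → k) (hx : (1, fun j => u (x j)) ∈ M.Γ L ψ W) : x = 0 := by
  classical
  funext ⟨⟨b, j⟩, hj⟩
  obtain ⟨X, π, h⟩ := hj.2
  have h1 := h.uniq (hx b X π h) Act.one
  rw [M.ex_eq h (γ' := fun j => u (if h : Oc p a L ψ W ρ (b, j) then x ⟨_, h⟩ else 0)) fun _ hj => by
    rw [dif_pos hj]] at h1
  exact (dif_pos hj).symm.trans ((M.mod b).u_eq_one (M.bas b) h1 hj.1)

theorem cj [IsAlgClosed k] (hF : Fintype.card F = p ^ a) (ha : 1 ≤ a) (s : kˣ →* G) (m : (Fˣ → k) → ℤ)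
    (hm : ∀ θ, ∀ y ∈ W, (∀ c, L (ψ (h c)) y = θ c • y) → ∀ z : kˣ, L (s z) y = ((z ^ m θ : kˣ) : k) • y)
    (hc : ∀ z t t', Commute (s z * ψ (u t) * (s z)⁻¹) (ψ (u t'))) (z : kˣ) (y : G) (x : {x // Oc p a L ψ W ρ x} → k)
    (hx : (y, fun j => u (x j)) ∈ M.Γ L ψ W) : (s z * y * (s z)⁻¹, fun j =>
      u (((z ^ (m (th ι j.1.1 (p ^ (j.1.2 : ℕ))) - m (th ι j.1.1 0)) : kˣ) : k) * x j)) ∈ M.Γ L ψ W := fun b X π hs => by
  have h0 : (Fintype.card F : k) = 0 := by rw [hF, Nat.cast_pow, CharP.cast_eq_zero, zero_pow (by omega)]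
  obtain ⟨φ, h1, h2⟩ := act_diag h0 (M.bas b) hs fun θ y hy hθ => hm θ y hy hθ z
  obtain ⟨φ', h3, -⟩ := act_diag h0 (M.bas b) hs fun θ y hy hθ => hm θ y hy hθ z⁻¹
  rw [map_inv] at h3
  obtain ⟨-, c, -, h4, h5, -⟩ := (M.mod b).diag hF (M.lt b) (M.bas b) (s := φ) (s' := φ')
    (hs.uniq (h1.mul h3) (by rw [mul_inv_cancel]; exact Act.one)) h2 fun t t' =>
    hs.uniq (((h1.mul (hs.act _)).mul h3).mul (hs.act _)) (by
      rw [(hc z t t').eq]
      exact (hs.act _).mul ((h1.mul (hs.act _)).mul h3))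
  have h6 := (h1.mul (hx b X π hs)).mul h3
  rw [h5] at h6
  rw [M.ex_eq hs fun j hj => ?_]
  · exact h6
  have h7 := h4 j 0 zero_mem_Bf (by rw [dg_zero]; exact Nat.pos_of_ne_zero hj.1)
  rw [zero_add] at h7
  rw [show ex p a L ψ W ρ b (fun j => u (x j)) j = u (x ⟨_, hj⟩) from dif_pos hj, h_u_h]
  show u (((z ^ (m (th ι b (p ^ (j : ℕ))) - m (th ι b 0)) : kˣ) : k) * _) = _
  rw [_root_.zpow_sub, Units.val_mul, h7, Units.mul_inv_cancel_right]

theorem ker (hc : ∀ (V' : Type u) [AddCommGroup V'] [Module k V'] [FiniteDimensional k V']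
      (ρ' : Representation k (SpecialLinearGroup (Fin 2) F) V'),
      Irrd ρ' → ∃ (b : Fin n) (φ : V b ≃ₗ[k] V'), ∀ g x, φ (ρ b g x) = ρ' g (φ x))
    {y : G} (hy : (y, 1) ∈ M.Γ L ψ W) : y ∈ K1 L ψ W := fun X Y h x hx => by
  obtain ⟨b, π, h1, h2⟩ := exists_sc ρ hc h
  have h3 := hy b Y π h1 x hx
  rw [map_one, map_one] at h3
  exact h2 _ (sub_mem h3.1 hx) (by rw [map_sub, h3.2]; exact sub_self _)

end Md

variable (ι p) in
/-- a complete family of models -/
theorem exists_md [IsAlgClosed k] (hF : Fintype.card F = p ^ a) :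
    Nonempty (Md ι p a fun b : Fin (Fintype.card F) => RB ι p (Nat.le_sub_one_of_lt b.2)) ∧
    ∀ (V' : Type u) [AddCommGroup V'] [Module k V'] [FiniteDimensional k V']
      (ρ' : Representation k (SpecialLinearGroup (Fin 2) F) V'), Irrd ρ' → ∃ (b : Fin (Fintype.card F))
      (φ : Vb ι b ≃ₗ[k] V'), ∀ g x, φ (RB ι p (Nat.le_sub_one_of_lt b.2) g x) = ρ' g (φ x) := by
  constructor
  · have h1 := fun b : Fin (Fintype.card F) => isV_mod hF (ρ := RB ι p (Nat.le_sub_one_of_lt b.2))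
      ⟨Nat.le_sub_one_of_lt b.2, LinearEquiv.refl _ _, fun _ _ => rfl⟩
    choose h2 v h3 R h4 using h1
    exact ⟨⟨v, R, h2, h3, h4⟩⟩
  · intro V' _ _ _ ρ' h
    obtain ⟨b, hb, φ, hφ⟩ := (Sy ι p).ex ρ' h
    exact ⟨⟨b, by have := Fintype.card_pos (α := F); omega⟩, φ, hφ⟩

end Cfsg.Agent.E7P.Se
end

-- part: E7P/Ag/Se
section
prune_inst 0x504075244580000800180500f2000442a8000492004b8c00cc200e040f89ec6220032e61bd30001b88b280cc6839044811000130428000000a3c0400013905a190d252023300e019660011010808400000008040000000000000000000000000000400000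
set_option linter.all false
open scoped Cfsg.Agent.FastGrp

/-!
# S5932, task ALG-6: the action on the composition factors of `W` (helper33)

* `Sit.se_K1` : the elements which are trivial on all simple sections of `W` have bounded order prime to `p`;
* `Sit.sec` : **Sec**.
-/

set_option autoImplicit false

namespace Cfsg.Agent.E7P

open Cfsg Cfsg.Lie Matrix Module
open Cfsg.Agent.R2.T1 Cfsg.Agent.E7P.Kf Cfsg.Agent.E7P.Se
open Cfsg.Agent.H943.SL2Rel (u w h)

universe u v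

namespace Se

/-- the representation which is given by matrices -/
noncomputable def rp {k G I : Type*} [Field k] [Group G] [Fintype I] [DecidableEq I] (R : G →* Matrix I I k) :
    Representation k G (I → k) where
  toFun g := Matrix.toLin' (R g)
  map_one' := by rw [map_one, Matrix.toLin'_one]; rfl
  map_mul' x y := by rw [map_mul, Matrix.toLin'_mul]; rfl

theorem K1_conj {k : Type u} [Field k] {G A : Type*} [Group G] [Group A] {E : Type u} [AddCommGroup E] [Module k E]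
    [FiniteDimensional k E] {L : Representation k G E} {ψ : A →* G} {W : Submodule k E} {m : G}
    (hW : ∀ x ∈ W, L m⁻¹ x ∈ W) (hA : ∀ g, ∃ g', m * ψ g * m⁻¹ = ψ g') (hA' : ∀ g, ∃ g', m⁻¹ * ψ g * m⁻¹⁻¹ = ψ g')
    {y : G} (hy : y ∈ K1 L ψ W) : m * y * m⁻¹ ∈ K1 L ψ W := by
  have h1 : ∀ m y x, L m (L y x) = L (m * y * m⁻¹) (L m x) := fun m y x => by rw [mul_app, mul_app, inv_app]
  exact K1_tr ⟨⟨L m, L m⁻¹, inv_app L m, app_inv L m⟩, map_add (L m)⟩ (fun c x => ⟨c, map_smul (L m) c x⟩)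
    (fun c x => ⟨c, map_smul (L m⁻¹) c x⟩) (fun x hx => inv_app L m x ▸ hW _ hx)
    (fun g => (hA g).imp fun g' e x => e ▸ h1 m _ x) (fun g => (hA' g).imp fun g' e x => e ▸ h1 m⁻¹ _ x) (h1 m y) hy

theorem sec_gen {k : Type u} [Field k] [IsAlgClosed k] {F : Type*} [Field F] [Fintype F] (ι : F →+* k) {p a : ℕ}
    (hp : p.Prime) [CharP k p] [CharP F p] (hF : Fintype.card F = p ^ a) (ha : 1 ≤ a) {G : Type*} [Group G] {I : Type}
    [Fintype I] [DecidableEq I] (R : G →* Matrix I I k) (ψ : SpecialLinearGroup (Fin 2) F →* G) (W : Submodule k (I → k)) :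
    ∃ (J : Type) (_ : Finite J) (ι' : J → (F →+* k)) (Γ : Subgroup (G × (J → SpecialLinearGroup (Fin 2) k))),
      (∀ x, (ψ x, fun j => SpecialLinearGroup.map (ι' j) x) ∈ Γ) ∧ (∀ y, (y, 1) ∈ Γ → y ∈ K1 (rp R) ψ W) ∧
      (∀ x : J → k, (1, fun j => u (x j)) ∈ Γ → x = 0) ∧ ∀ s : kˣ →* G,
      (∀ θ : Fˣ → k, ∃ n : ℤ, ∀ y ∈ W, (∀ c, R (ψ (h c)) *ᵥ y = θ c • y) → ∀ z : kˣ, R (s z) *ᵥ y = ((z ^ n : kˣ) : k) • y) →
      (∀ z t t', s z * ψ (u t) * (s z)⁻¹ * ψ (u t') = ψ (u t') * (s z * ψ (u t) * (s z)⁻¹)) →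
      ∃ n : J → ℤ, ∀ (z : kˣ) (y : G) (x : J → k), (y, fun j => u (x j)) ∈ Γ →
        (s z * y * (s z)⁻¹, fun j => u (((z ^ n j : kˣ) : k) * x j)) ∈ Γ := by
  classical
  have : Fact p.Prime := ⟨hp⟩
  obtain ⟨⟨M⟩, hc⟩ := exists_md ι p hF
  refine ⟨{x // Oc p a (rp R) ψ W (fun b : Fin (Fintype.card F) => R2.H28.SL2.RB ι p (Nat.le_sub_one_of_lt b.2)) x},
    inferInstance, fun j => Alm.fr ι p j.1.2, M.Γ (rp R) ψ W, ?_, ?_, ?_, ?_⟩
  · exact M.res
  · exact fun y hy => M.ker hc hy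
  · exact M.inj
  intro s hs hc
  choose m hm using hs
  exact ⟨_, M.cj hF ha s m hm hc⟩

end Se

namespace Sit

variable {p a b : ℕ} {F : Type u} {K : Type v} {k : Type u} [Field F] [Fintype F] [Field K] [Fintype K] [Field k]
  (S : Sit p a b F K k) {I : Type} [Fintype I] [DecidableEq I] {c : I → Fin 7 → ℤ} {R : Gh k →* Matrix I I k}

theorem se_σ (hR : WRep c R) {W : Submodule k (I → k)} (hW : S.Stb R W) {y : Gh k} (hy : y ∈ K1 (rp R) S.ψ W) :
    S.σ y ∈ K1 (rp R) S.ψ W := by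
  have := S.closed
  let s : k ≃+* k := RingEquiv.ofBijective S.s ⟨S.s.injective, fun t =>
    (IsAlgClosed.exists_pow_nat_eq t (Nat.card_pos (α := F))).imp fun z hz => (S.frob z).trans hz⟩
  let f : (I → k) ≃+ (I → k) := AddEquiv.piCongrRight fun _ => s.toAddEquiv
  have h1 : ∀ y x, f (rp R y x) = rp R (S.σ y) (f x) := fun y x => S.sv_mulVec hR y x
  refine K1_tr f (fun c x => ⟨s c, funext fun i => map_mul s c (x i)⟩)
    (fun c x => ⟨s.symm c, funext fun i => map_mul s.symm c (x i)⟩) (fun x hx => ?_)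
    (fun g => ⟨g, fun x => by rw [h1, S.k_σ_ψ]⟩) (fun g => ⟨g, fun x => f.injective ?_⟩) (h1 y) hy
  · obtain ⟨x', hx', e⟩ := S.k_sv_surj (X := (W : Set (I → k))) hW.2 _ hx
    rw [f.injective (a₂ := x') e]
    exact hx'
  · rw [h1, S.k_σ_ψ, f.apply_symm_apply, f.apply_symm_apply]

/-- the elements which are trivial on all simple sections -/
theorem se_K1 (hs : S.SSC) (hR : WRep c R) (T : S.TorW R) :
    ∃ N : ℕ, (N : k) ≠ 0 ∧ ∀ y ∈ K1 (rp R) S.ψ T.W, y ^ N = 1 := by
  classical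
  have := S.chark
  have : Fact p.Prime := ⟨S.prime⟩
  obtain ⟨N, hN, h1⟩ := T.expo
  have hW : As (rp R) S.ψ T.W := fun g => T.stb.1 _ (S.k_ψ_mem g)
  obtain ⟨e, he⟩ := K1_pow p hW
  have h2 : ∃ x, S.ψ x ∉ K1 (rp R) S.ψ T.W := by
    by_contra h2
    push Not at h2
    obtain ⟨d, hd⟩ := exists_pow_ne_one_of_isCyclic (G := Kˣ) two_ne_zero (by
      have := S.k_four
      rw [Nat.card_units, Nat.card_eq_fintype_card]
      omega)
    have h3 : ((d ^ p ^ e : Kˣ) : K) ^ 2 - 1 ≠ 0 := fun h3 => hd (S.units_eq_one (n := e) (Units.ext (by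
      rw [← pow_mul, mul_comm, pow_mul, Units.val_pow_eq_pow_val]
      exact sub_eq_zero.1 h3)))
    have h4 : ∀ x ∈ T.W, rp R (S.ψ (h (d ^ p ^ e))) x = x := by
      rw [H943.SL2Rel.h_pow, map_pow]
      exact he _ (h2 _)
    have h5 := h1 (S.ψ (u (((d ^ p ^ e : Kˣ) : K) ^ 2 - 1))) fun x hx => by
      show rp R _ x = x
      have h6 := hW (u 1)⁻¹ x hx
      have h7 : rp R (S.ψ (h (d ^ p ^ e)))⁻¹ (rp R (S.ψ (u 1)⁻¹) x) = rp R (S.ψ (u 1)⁻¹) x := by
        conv_lhs => rw [← h4 _ h6, inv_app]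
      rw [sub_eq_add_neg, H943.SL2Rel.u_add, H943.SL2Rel.u_neg, ← mul_one (_ ^ 2), ← Alm.h_u_h, map_mul S.ψ, map_mul S.ψ,
        map_mul S.ψ, mul_app, mul_app, mul_app, map_inv S.ψ (h _), h7, map_inv, app_inv, h4 x hx]
    refine S.ψ_u_ne h3 ?_
    have h6 := pow_gcd_eq_one.2 ⟨h5, S.ψ_u_pow _⟩
    rwa [(Nat.coprime_comm.1 ((Nat.Prime.coprime_iff_not_dvd S.prime).2 fun h =>
      hN ((CharP.cast_eq_zero_iff k p N).2 h))).gcd_eq_one, pow_one] at h6
  have h3 : ∀ (e : ℕ), ∀ y ∈ K1 (rp R) S.ψ T.W, y ^ p ^ e = 1 → y = 1 := fun e => by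
    induction e with
    | zero => intro y _ h; rwa [pow_zero, pow_one] at h
    | succ e ih =>
      intro y hy h
      rw [pow_succ, pow_mul] at h
      exact ih y hy (S.nop_of_not hs (fun x => S.se_σ hR T.stb) (fun m hm x => K1_conj (T.stb.1 _ (inv_mem hm))
        (S.norm_ψ hm) (S.norm_ψ (inv_mem hm))) h2 (pow_mem hy _) h)
  exact ⟨N, hN, fun y hy => h3 e _ (pow_mem hy N) (by rw [← pow_mul, mul_comm, pow_mul]; exact h1 _ (he y hy))⟩

/-- **Sec** (task ALG-6) -/
theorem sec (hs : S.SSC) (hR : WRep c R) (T : S.TorW R) (ha : S.AbU R T.W) : Nonempty (S.Sec R T.W) := by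
  have := S.closed
  have := S.chark
  have := S.charK
  obtain ⟨J, h0, ι, Γ, h1, h2, h3, h4⟩ := sec_gen S.ι S.prime S.cardK S.ha R S.ψ T.W
  obtain ⟨N, hN, h5⟩ := S.se_K1 hs hR T
  refine ⟨⟨J, h0, ι, Γ, h1, N, hN, fun y hy => h5 y (h2 y hy), h3, fun g l hg =>
    h4 (co g l) hg.scal fun z t t' => ha _ ?_ _ ?_⟩⟩
  · exact Subgroup.subset_closure ⟨_, Subgroup.subset_closure ⟨g, l, z, hg, rfl⟩, t, rfl⟩
  · exact Subgroup.subset_closure ⟨1, one_mem _, t', by rw [one_mul, inv_one, mul_one]⟩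

end Sit

end Cfsg.Agent.E7P

private theorem dce_1831ae05ad4f : _root_.True := by
  try have : _root_.True := by simp only [_root_.Cfsg.Agent.E7P.Se.K1.congr_simp]
  exact _root_.True.intro
end

-- part: E7P/Ag/Ri
section
prune_inst 0x74607d646100000000000510720024668c000092002b880068a007460fc8a50384020f61be50141a00be32c45838004811000060428000000a1c3400013b05a180801000a008401106001000000c400000008040000000000000000000000004000400000
set_option linter.all false
open scoped Cfsg.Agent.FastGrp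

/-!
# S5932, ALG-3 : subrings and endomorphisms of `k ^ n`, the number of fixed points (helper16)
-/

set_option autoImplicit false

namespace Cfsg.Agent.E7P.Kf

open Cfsg.Agent.BpExc.TorAll (HAlg)
open Polynomial

universe u

variable {k : Type u} [Field k] {p : ℕ}

theorem ri_card [IsAlgClosed k] (hp : p.Prime) [CharP k p] {e : ℕ} (he : 0 < e) :
    Nat.card {a : k // a ^ p ^ e = a} = p ^ e := by
  have := Fact.mk hp
  have h1 : (X ^ p ^ e - X : k[X]).natDegree = p ^ e := FiniteField.X_pow_card_pow_sub_X_natDegree_eq k he.ne' hp.one_lt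
  have h2 := card_rootSet_eq_natDegree (K := k) (galois_poly_separable (K := k) p (p ^ e) (dvd_pow_self p he.ne'))
    (IsAlgClosed.splits _)
  rw [h1, ← Nat.card_eq_fintype_card] at h2
  refine (Nat.card_congr (Equiv.subtypeEquivRight fun a => ?_)).trans h2
  rw [mem_rootSet_of_ne (FiniteField.X_pow_card_pow_sub_X_ne_zero k he.ne' hp.one_lt)]
  simp [sub_eq_zero]

theorem ri_bij [IsAlgClosed k] (hp : p.Prime) [CharP k p] (hA : HAlg p k) (f : k →+* k) : Function.Bijective f := by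
  refine ⟨f.injective, fun a => ?_⟩
  obtain ⟨m, hm, ha⟩ := hA a
  have := Nat.finite_of_card_ne_zero (ri_card (k := k) hp hm ▸ pow_ne_zero m hp.ne_zero)
  obtain ⟨b, hb⟩ := Finite.surjective_of_injective (f := fun b : {a : k // a ^ p ^ m = a} =>
    (⟨f b, by rw [← map_pow, b.2]⟩ : {a : k // a ^ p ^ m = a}))
    (fun b c h => Subtype.ext (f.injective (congrArg Subtype.val h))) ⟨a, ha⟩
  exact ⟨b, congrArg Subtype.val hb⟩

/-- **COUNT** -/
theorem count [IsAlgClosed k] (hp : p.Prime) [CharP k p] {b : ℕ} (hb : 1 ≤ b) : COUNT k (p ^ b) := by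
  intro n π hn ht
  let o : Fin n := ⟨0, hn⟩
  have hc : π.IsCycleOn (Finset.univ : Finset (Fin n)) := by
    rw [Finset.coe_univ]
    exact ⟨Set.bijOn_univ.2 π.bijective, fun x _ y _ => let ⟨m, h⟩ := ht x y; ⟨m, by rwa [zpow_natCast]⟩⟩
  have h1 : ∀ {i j : ℕ}, (π ^ i) o = (π ^ j) o → i ≡ j [MOD n] := fun h => by
    have h2 := (hc.pow_apply_eq_pow_apply (Finset.mem_univ o)).1 h
    rwa [Finset.card_fin] at h2
  have h2 : (π ^ n) o = o := by
    have h2 := hc.pow_card_apply (Finset.mem_univ o)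
    rwa [Finset.card_fin] at h2
  have h3 : ∀ v : Fin n → k, (∀ i, v (π i) = v i ^ p ^ b) → ∀ m, v ((π ^ m) o) = v o ^ (p ^ b) ^ m := fun v hv m => by
    induction m with
    | zero => rw [pow_zero, pow_zero, pow_one, Equiv.Perm.one_apply]
    | succ m ih => rw [pow_succ', Equiv.Perm.mul_apply, hv, ih, ← pow_mul, ← pow_succ]
  have h4 : ∀ t : k, t ^ (p ^ b) ^ n = t → ∀ i, t ^ (p ^ b) ^ i = t ^ (p ^ b) ^ (i % n) := fun t h i => by
    conv_lhs => rw [← Nat.div_add_mod i n, pow_add, pow_mul]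
    congr 1
    induction i / n with
    | zero => rw [mul_zero, pow_zero, pow_one]
    | succ m ih => rw [Nat.mul_succ, pow_add, pow_mul, ih, h]
  choose e he using ht o
  rw [← pow_mul, ← ri_card (k := k) hp (Nat.mul_pos hb hn)]
  refine Nat.card_eq_of_bijective (fun v => ⟨v.1 o, by rw [pow_mul p, ← h3 v.1 v.2, h2]⟩) ⟨fun v w h => ?_, fun t => ?_⟩
  · refine Subtype.ext (_root_.funext fun i => ?_)
    rw [← he i, h3 v.1 v.2, h3 w.1 w.2, show v.1 o = w.1 o from congrArg Subtype.val h]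
  · have h5 := h4 t.1 (by rw [← pow_mul p]; exact t.2)
    refine ⟨⟨fun i => t.1 ^ (p ^ b) ^ e i, fun i => ?_⟩, Subtype.ext ?_⟩
    · change t.1 ^ (p ^ b) ^ e (π i) = (t.1 ^ (p ^ b) ^ e i) ^ p ^ b
      rw [← pow_mul t.1, ← pow_succ, h5 (e (π i)), h5 (e i + 1),
        show e (π i) % n = (e i + 1) % n from h1 (by rw [he, pow_succ', Equiv.Perm.mul_apply, he])]
    · change t.1 ^ (p ^ b) ^ e o = t.1
      rw [h5, show e o % n = 0 % n from h1 (he o), Nat.zero_mod, pow_zero, pow_one]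

theorem ri_idem {a : k} (h : a * a = a) (h0 : a ≠ 0) : a = 1 := mul_left_cancel₀ h0 (h.trans (mul_one a).symm)

/-- **RINGE** -/
theorem ringe [IsAlgClosed k] (hp : p.Prime) [CharP k p] (hA : HAlg p k) : RINGE k := by
  classical
  intro n f hf
  have h1 : ∀ i, ∃ j, f (Pi.single i 1) j ≠ 0 := fun i => Function.ne_iff.1 fun h =>
    one_ne_zero ((Pi.single_eq_same (M := fun _ => k) i 1).symm.trans (congrFun (hf (h.trans (map_zero f).symm)) i))
  choose π hπ using h1
  have h2 : ∀ i j, i ≠ j → ∀ t : k, f (Pi.single i t) (π j) = 0 := fun i j h t => by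
    have h3 : (Pi.single i t : Fin n → k) * Pi.single j 1 = 0 := by
      rw [← Pi.single_mul_left, Pi.single_eq_of_ne h, mul_zero, Pi.single_zero]
    have h4 := congrFun (congrArg f h3) (π j)
    rw [map_mul, map_zero, Pi.mul_apply] at h4
    exact (mul_eq_zero.1 h4).resolve_right (hπ j)
  have h3 : Function.Bijective π := Finite.injective_iff_bijective.1 fun i j h =>
    not_not.1 fun h4 => hπ i (h ▸ h2 i j h4 1)
  let g : Fin n → (k →+* k) := fun i =>
    { toFun := fun t => f (Pi.single i t) (π i)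
      map_one' := ri_idem (by rw [← Pi.mul_apply, ← map_mul, ← Pi.single_mul, mul_one]) (hπ i)
      map_mul' := fun s t => by rw [Pi.single_mul, map_mul, Pi.mul_apply]
      map_zero' := by rw [Pi.single_zero, map_zero, Pi.zero_apply]
      map_add' := fun s t => by rw [Pi.single_add, map_add, Pi.add_apply] }
  have h4 : ∀ x j, f x (π j) = g j (x j) := fun x j => by
    conv_lhs => rw [← Finset.univ_sum_single x, map_sum, Finset.sum_apply]
    exact Finset.sum_eq_single j (fun i _ h => h2 i j h _) fun h => absurd (Finset.mem_univ j) h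
  refine ⟨Equiv.ofBijective π h3, fun i => RingEquiv.ofBijective (g i) (ri_bij hp hA _), fun i t => _root_.funext fun j => ?_,
    fun h i j => ?_⟩
  · obtain ⟨j, rfl⟩ := h3.2 j
    by_cases h : i = j
    · rw [← h]
      exact (Pi.single_eq_same (M := fun _ => k) (π i) (g i t)).symm
    · exact (h2 i j h t).trans (Pi.single_eq_of_ne (M := fun _ => k) (fun h5 => h (h3.1 h5).symm) _).symm
  · generalize hσ : Equiv.ofBijective π h3 = σ
    have h5 : ∀ j, π j = σ j := fun j => hσ ▸ rfl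
    have h6 : ∀ j, (∃ m : ℕ, (σ ^ m) i = π j) ↔ ∃ m : ℕ, (σ ^ m) i = j := fun j =>
      ⟨fun ⟨m, hm⟩ => ⟨orderOf σ - 1 + m, by
        rw [pow_add, Equiv.Perm.mul_apply, hm, h5, ← Equiv.Perm.mul_apply, ← pow_succ,
          Nat.sub_add_cancel (orderOf_pos σ), pow_orderOf_eq_one, Equiv.Perm.one_apply]⟩,
      fun ⟨m, hm⟩ => ⟨m + 1, by rw [pow_succ', Equiv.Perm.mul_apply, hm, h5]⟩⟩
    rcases h (fun j => if ∃ m : ℕ, (σ ^ m) i = j then 1 else 0) (_root_.funext fun j => by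
      obtain ⟨j, rfl⟩ := h3.2 j
      rw [h4, h6, apply_ite (g j), map_one, map_zero]) (_root_.funext fun j => by
      rw [Pi.mul_apply]; split_ifs <;> simp) with h7 | h7
    · have h8 := congrFun h7 i
      rw [if_pos ⟨0, rfl⟩] at h8
      exact absurd h8 one_ne_zero
    · by_contra h8
      have h9 := congrFun h7 j
      rw [if_neg h8] at h9
      exact zero_ne_one h9

section ringd

variable {J : Type} [Finite J] {B : Subring (J → k)}

theorem ri_supp (hp : p.Prime) (hA : HAlg p k) (x : B) :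
    ∃ e : B, ∀ j, (x.1 j = 0 → e.1 j = 0) ∧ (x.1 j ≠ 0 → e.1 j = 1) := by
  obtain ⟨N, hN, h⟩ := locFin hA (Set.finite_range x.1)
  have h1 : 1 < p ^ N := Nat.one_lt_pow hN.ne' hp.one_lt
  refine ⟨x ^ (p ^ N - 1), fun j => ⟨fun h2 => ?_, fun h2 => mul_left_cancel₀ h2 ?_⟩⟩
  · change x.1 j ^ _ = 0
    rw [h2, zero_pow (by omega)]
  · change x.1 j * x.1 j ^ _ = _
    rw [← pow_succ', Nat.sub_add_cancel h1.le, h _ ⟨j, rfl⟩, mul_one]

theorem ri_ind (hp : p.Prime) (hA : HAlg p k) (S : J → Prop) (h : ∀ i j, S i → ¬ S j → ∃ x : B, x.1 i = 0 ∧ x.1 j ≠ 0) :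
    ∃ e : B, ∀ j, (S j → e.1 j = 1) ∧ (¬ S j → e.1 j = 0) := by
  classical
  have := Fintype.ofFinite J
  have h1 : ∀ i j, ∃ y : B, S i → ¬ S j → y.1 i = 0 ∧ y.1 j = 1 := fun i j => by
    by_cases h2 : S i ∧ ¬ S j
    · obtain ⟨x, h3, h4⟩ := h i j h2.1 h2.2
      obtain ⟨e, he⟩ := ri_supp hp hA x
      exact ⟨e, fun _ _ => ⟨(he i).1 h3, (he j).2 h4⟩⟩
    · exact ⟨0, fun h3 h4 => absurd ⟨h3, h4⟩ h2⟩
  choose y hy using h1
  have h2 : ∀ j, (∏ j' with ¬ S j', (1 - ∏ i with S i, y i j') : B).1 j =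
      ∏ j' with ¬ S j', (1 - ∏ i with S i, (y i j').1 j) := fun j => by
    simp only [SubmonoidClass.coe_finsetProd, AddSubgroupClass.coe_sub, OneMemClass.coe_one, Finset.prod_apply,
      Pi.sub_apply, Pi.one_apply]
  refine ⟨_, fun j => ⟨fun h3 => (h2 j).trans (Finset.prod_eq_one fun j' h4 => ?_),
    fun h3 => (h2 j).trans (Finset.prod_eq_zero (i := j) (by simpa only [_root_.Finset.mem_filter, _root_.Finset.mem_univ, _root_.true_and] using h3) ?_)⟩⟩
  · rw [Finset.prod_eq_zero (f := fun i => (y i j').1 j) (Finset.mem_filter.2 ⟨Finset.mem_univ j, h3⟩)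
      (hy j j' h3 (by simpa only [_root_.Finset.mem_filter, _root_.Finset.mem_univ, _root_.true_and] using h4)).1, sub_zero]
  · rw [Finset.prod_eq_one fun i h4 => (hy i j (by simpa only [_root_.Finset.mem_filter, _root_.Finset.mem_univ, _root_.true_and] using h4) h3).2, sub_self]

omit [Finite J] in
theorem ri_fac [IsAlgClosed k] (hp : p.Prime) [CharP k p] (hA : HAlg p k) {j : J} (hj : ∀ t, ∃ x : B, x.1 j = t)
    (g : B →+* k) (h : ∀ x : B, x.1 j = 0 → g x = 0) : ∃ φ : k ≃+* k, ∀ x, g x = φ (x.1 j) :=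
  ⟨RingEquiv.ofBijective (((Pi.evalRingHom _ j).comp B.subtype).liftOfSurjective hj ⟨g, h⟩) (ri_bij hp hA _),
    fun x => (((Pi.evalRingHom _ j).comp B.subtype).liftOfSurjective_comp_apply hj ⟨g, h⟩ x).symm⟩

theorem ri_onto [IsAlgClosed k] (hp : p.Prime) [CharP k p] (hA : HAlg p k) (ν : B →+* B) (hν : Function.Injective ν)
    (hf : ∀ x : B, ν x = x → x * x = x → x = 0 ∨ x = 1) (h0 : ∃ j, ∀ t, ∃ x : B, x.1 j = t) (j : J) :
    ∀ t, ∃ x : B, x.1 j = t := by
  classical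
  have := Fintype.ofFinite J
  let ev : J → (B →+* k) := fun j => (Pi.evalRingHom _ j).comp B.subtype
  have h1 : ∀ i j (μ : B →+* B), (∀ t, ∃ x : B, x.1 i = t) → (¬ ∀ t, ∃ x : B, x.1 j = t) →
      ∃ x : B, x.1 i = 0 ∧ (μ x).1 j ≠ 0 := fun i j μ hi hj => by
    by_contra h
    obtain ⟨φ, h2⟩ := ri_fac hp hA hi ((ev j).comp μ) fun x hx => not_not.1 fun h2 => h ⟨x, hx, h2⟩
    refine hj fun t => ?_
    obtain ⟨x, hx⟩ := hi (φ.symm t)
    exact ⟨μ x, (h2 x).trans (by rw [hx, RingEquiv.apply_symm_apply])⟩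
  obtain ⟨e, he⟩ := ri_ind hp hA (B := B) (fun j => ∀ t, ∃ x : B, x.1 j = t) fun i j => h1 i j (RingHom.id B)
  have h2 : e * e = e := Subtype.ext (_root_.funext fun j => by
    change e.1 j * e.1 j = e.1 j
    by_cases h : ∀ t, ∃ x : B, x.1 j = t
    · rw [(he j).1 h, mul_one]
    · rw [(he j).2 h, mul_zero])
  have h3 : ν e * e = ν e := Subtype.ext (_root_.funext fun j => by
    change (ν e).1 j * e.1 j = (ν e).1 j
    by_cases h : ∀ t, ∃ x : B, x.1 j = t
    · rw [(he j).1 h, mul_one]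
    · choose! x hx using fun i hi => h1 i j ν hi h
      have h4 : e * ∏ i with ∀ t, ∃ x : B, x.1 i = t, x i = 0 := Subtype.ext (_root_.funext fun i => by
        change ev i (e * _) = 0
        rw [map_mul, map_prod]
        by_cases hi : ∀ t, ∃ x : B, x.1 i = t
        · rw [Finset.prod_eq_zero (f := fun a => ev i (x a)) (Finset.mem_filter.2 ⟨Finset.mem_univ i, hi⟩) (hx i hi).1,
            mul_zero]
        · rw [show ev i e = 0 from (he i).2 hi, zero_mul])
      have h5 := congrArg ((ev j).comp ν) h4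
      rw [map_mul, map_prod, map_zero] at h5
      rw [(he j).2 h, mul_zero]
      exact ((mul_eq_zero.1 h5).resolve_right (Finset.prod_ne_zero_iff.2 fun i hi => (hx i (by simpa only [_root_.Subtype.exists, _root_.exists_prop, _root_.Finset.mem_filter, _root_.Finset.mem_univ, _root_.true_and] using hi)).2)).symm)
  have h4 : ∀ m, ν^[m + 1] e * ν e = ν^[m + 1] e := fun m => by
    induction m with
    | zero => exact (map_mul ν e e).symm.trans (congrArg ν h2)
    | succ m ih => rw [Function.iterate_succ_apply', ← map_mul, ← ih, mul_assoc, h3]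
  have : Finite {x : B // x * x = x} := Finite.of_injective (fun x j => x.1.1 j = 0) fun x y h =>
    Subtype.ext (Subtype.ext (_root_.funext fun j => by
      have h5 : x.1.1 j = 0 ↔ y.1.1 j = 0 := (congrFun h j).to_iff
      by_cases h6 : x.1.1 j = 0
      · rw [h6, h5.1 h6]
      · rw [ri_idem (congrFun (congrArg Subtype.val x.2) j) h6,
          ri_idem (congrFun (congrArg Subtype.val y.2) j) (mt h5.2 h6)]))
  let F : {x : B // x * x = x} → {x : B // x * x = x} := fun x => ⟨ν x, by rw [← map_mul, x.2]⟩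
  obtain ⟨m, hm, h5⟩ := Function.Injective.mem_periodicPts (f := F)
    (fun x y h => Subtype.ext (hν (congrArg Subtype.val h))) ⟨e, h2⟩
  have h6 : ∀ m, (F^[m] ⟨e, h2⟩).1 = ν^[m] e := fun m => by
    induction m with
    | zero => rfl
    | succ m ih => rw [Function.iterate_succ_apply', Function.iterate_succ_apply', ← ih]
  have h7 : ν^[m - 1 + 1] e = e := by
    rw [Nat.sub_add_cancel hm, ← h6]
    exact congrArg Subtype.val h5
  have h8 := h4 (m - 1)
  rw [h7, mul_comm, h3] at h8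
  rcases hf e h8 h2 with h9 | h9
  · obtain ⟨i, hi⟩ := h0
    exact absurd (((he i).1 hi).symm.trans (congrFun (congrArg Subtype.val h9) i)) one_ne_zero
  · by_contra h
    exact zero_ne_one (((he j).2 h).symm.trans (congrFun (congrArg Subtype.val h9) j))

end ringd

/-- **RINGD** -/
theorem ringd [IsAlgClosed k] (hp : p.Prime) [CharP k p] (hA : HAlg p k) : RINGD k := by
  classical
  intro J _ B ν hν hf h0
  have h1 := ri_onto hp hA ν hν hf h0
  have h2 : ∀ i j, (∀ x : B, x.1 i = 0 → x.1 j = 0) → ∀ x : B, x.1 j = 0 → x.1 i = 0 := fun i j h x hx => by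
    obtain ⟨φ, h3⟩ := ri_fac hp hA (h1 i) ((Pi.evalRingHom _ j).comp B.subtype) h
    exact (map_eq_zero φ).1 ((h3 x).symm.trans hx)
  let s : Setoid J := ⟨fun i j => ∀ x : B, x.1 i = 0 → x.1 j = 0,
    ⟨fun _ _ h => h, fun h => h2 _ _ h, fun h h' x hx => h' x (h x hx)⟩⟩
  obtain ⟨n, ⟨ε⟩⟩ := Finite.exists_equiv_fin (Quotient s)
  let rep : Fin n → J := fun i => (ε.symm i).out
  have h3 : ∀ i, ε (Quotient.mk s (rep i)) = i := fun i => by rw [Quotient.out_eq, Equiv.apply_symm_apply]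
  have h4 : ∀ j, s (rep (ε (Quotient.mk s j))) j := fun j => by
    rw [show rep _ = (Quotient.mk s j).out from congrArg Quotient.out (ε.symm_apply_apply _)]
    exact Quotient.mk_out j
  let Θ : B →+* (Fin n → k) := RingHom.pi fun i => (Pi.evalRingHom _ (rep i)).comp B.subtype
  have h5 : Function.Bijective Θ := by
    refine ⟨(injective_iff_map_eq_zero Θ).2 fun x hx => Subtype.ext (_root_.funext fun j => h4 j x (congrFun hx _)), fun v => ?_⟩
    choose x hx using fun i => h1 (rep i) (v i)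
    choose e he using fun i => ri_ind hp hA (B := B) (fun j => s (rep i) j) fun a b ha hb => by
      by_contra h
      exact hb (s.trans ha fun x h6 => not_not.1 fun h7 => h ⟨x, h6, h7⟩)
    refine ⟨∑ i, x i * e i, _root_.funext fun j => ?_⟩
    rw [map_sum, Finset.sum_apply, Finset.sum_eq_single j (fun i _ h => ?_) fun h => absurd (Finset.mem_univ j) h]
    · change (x j).1 (rep j) * (e j).1 (rep j) = _
      rw [hx, (he j _).1 (s.refl _), mul_one]
    · change (x i).1 (rep j) * (e i).1 (rep j) = _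
      rw [(he i _).2 fun h6 => h (by rw [← h3 i, ← h3 j, Quotient.sound h6]), mul_zero]
  choose φ hφ using fun j => ri_fac hp hA (h1 _) ((Pi.evalRingHom _ j).comp B.subtype) (h4 j)
  obtain ⟨j0, -⟩ := h0
  exact ⟨n, (ε (Quotient.mk s j0)).pos, RingEquiv.ofBijective Θ h5, fun j => ε (Quotient.mk s j), φ,
    fun i => ⟨rep i, h3 i⟩, fun x j => hφ j x⟩

end Cfsg.Agent.E7P.Kf
end

-- part: E7P/En2/Top
section
prune_inst 0x60603460008000080018051070000422cc000402004b8c00cc0006040641a8420d010e4115201013083884400831044000000020409000000a3c000000210401805012021000e01d460081011008000000008040000000000000000000000004000400000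
set_option linter.all false
open scoped Cfsg.Agent.FastGrp

/-!
# S5932: END2, the centres of the factors of the algebraic overgroup are central (helper32)

`Sit.en2t_core` : some `Ξ i (-1)` not central is impossible.
-/

set_option autoImplicit false
set_option maxRecDepth 100000

namespace Cfsg.Agent.E7P

open Cfsg Cfsg.Lie Matrix Module
open Cfsg.Agent.H943.E7V.Block (D1 rho)
open Cfsg.Agent.R2.T1 Cfsg.Agent.E7P.Kf Cfsg.Agent.E7P.Rsl
open Cfsg.Agent.H943.SL2Rel (u w h)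

universe u v

theorem en2t_seven {n : ℕ} {l : Fin n → Fin 7 → ℤ} {c : Fin n → Fin 7 → ℤ} (h1 : ∀ i, lev (l i) (c i) = 2)
    (h2 : ∀ i j, j ≠ i → lev (l j) (c i) = 0) (h3 : ∀ ν, (∀ i, lev ν (c i) = 0) → ν = 0) : n = 7 := by
  refine le_antisymm ?_ ?_
  · have h4 : LinearIndependent ℤ l := Fintype.linearIndependent_iff.2 fun a ha i => by
      have h5 := congrArg (fun ν => lev ν (c i)) ha
      simp only [sum_lev] at h5
      have h6 : ∀ j, lev (a j • l j) (c i) = a j * lev (l j) (c i) := fun j => by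
        simp only [lev, Pi.smul_apply, smul_eq_mul, Finset.mul_sum, mul_left_comm]
      rw [Finset.sum_eq_single i (fun j _ hj => by rw [h6, h2 i j hj, mul_zero]) (by simp only [_root_.Finset.mem_univ, _root_.not_true_eq_false, _root_.zsmul_eq_mul, _root_.IsEmpty.forall_iff]), h6, h1] at h5
      simpa [lev] using h5
    simpa only [_root_.ge_iff_le, _root_.Fintype.card_fin, _root_.Module.finrank_fintype_fun_eq_card] using h4.fintype_card_le_finrank
  · let φ : (Fin 7 → ℤ) →ₗ[ℤ] (Fin n → ℤ) :=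
      { toFun := fun ν i => lev ν (c i)
        map_add' := fun ν μ => funext fun i => add_lev _ _ _
        map_smul' := fun a ν => funext fun i => by
          simp only [lev, Pi.smul_apply, smul_eq_mul, Finset.mul_sum, mul_left_comm, RingHom.id_apply] }
    simpa only [_root_.ge_iff_le, _root_.Module.finrank_fintype_fun_eq_card, _root_.Fintype.card_fin] using LinearMap.finrank_le_finrank_of_injective (f := φ)
      ((injective_iff_map_eq_zero φ).2 fun ν hν => h3 ν fun i => congrFun hν i)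

namespace Sit

variable {p a b : ℕ} {F : Type u} {K : Type v} {k : Type u} [Field F] [Fintype F] [Field K] [Fintype K] [Field k]
  (S : Sit p a b F K k)

theorem en2t_core (hp : p ≠ 2) (A : S.Alg) (X : Fin A.n → Std k) (hX : ∀ i x, (X i).Ξ x = A.g⁻¹ * A.Ξ i x * A.g)
    (cent : ∀ ν : Fin 7 → ℤ, (∀ i (r : Fin chevE7.nroots), (X i).e (Sum.inr r) ≠ 0 → lev ν (rc r) = 0) →
      (∀ i (r : Fin chevE7.nroots), (X i).f (Sum.inr r) ≠ 0 → lev ν (rc r) = 0) → ν = 0)
    (hC : ∃ i, A.Ξ i (h (-1)) ∉ Subgroup.center (Gh k)) : False := by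
  classical
  have := S.closed
  have := S.chark
  have hA : ∀ i x, A.Ξ i x = A.g * (X i).Ξ x * A.g⁻¹ := fun i x => by rw [hX]; group
  have hcm : ∀ i j, j ≠ i → ∀ x y, (X j).Ξ y * (X i).Ξ x = (X i).Ξ x * (X j).Ξ y := fun i j hij x y => by
    rw [hX, hX, show A.g⁻¹ * A.Ξ j y * A.g * (A.g⁻¹ * A.Ξ i x * A.g) = A.g⁻¹ * (A.Ξ j y * A.Ξ i x) * A.g by group,
      A.comm j i hij]
    group
  let C : Subgroup (Gh k) := Subgroup.closure {c | ∃ i, c = A.Ξ i (h (-1))}
  let L : Fin 7 → ℤ := ∑ i, (X i).l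
  have hT : ∀ c ∈ C, ∃ t, c = A.g * Phi k t * A.g⁻¹ ∧
      ∀ r : Fin chevE7.nroots, (∀ j, Even (lev (X j).l (rc r))) → ch (rc r) t = 1 := by
    intro c hc
    induction hc using Subgroup.closure_induction with
    | mem c hc =>
      obtain ⟨i, rfl⟩ := hc
      exact ⟨_, by rw [hA, (X i).tor], fun r hr => by rw [ch_lam]; exact (hr i).neg_one_zpow⟩
    | one => exact ⟨1, by rw [map_one, mul_one, mul_inv_cancel], fun r _ => Finset.prod_eq_one fun _ _ => _root_.one_zpow _⟩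
    | mul c d _ _ hc hd =>
      obtain ⟨s, rfl, hs⟩ := hc
      obtain ⟨t, rfl, ht⟩ := hd
      exact ⟨s * t, by rw [map_mul]; group, fun r hr =>
        ((Finset.prod_congr rfl fun _ _ => mul_zpow _ _ _).trans (by exact Finset.prod_mul_distrib)).trans
          (show ch (rc r) s * ch (rc r) t = 1 by rw [hs r hr, ht r hr, mul_one])⟩
    | inv c _ hc =>
      obtain ⟨s, rfl, hs⟩ := hc
      exact ⟨s⁻¹, by rw [map_inv]; group, fun r hr => by rw [ch_inv, hs r hr, inv_one]⟩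
  have hΨ : ∀ r : Fin chevE7.nroots, (∀ j, Even (lev (X j).l (rc r))) → Psi C A.g r := fun r hr t ht => by
    obtain ⟨s, e, hs⟩ := hT _ ht
    have h1 := congrArg (fun y => adM k y (Sum.inr r) (Sum.inr r)) (mul_left_cancel (mul_right_cancel e))
    simp only [wrep_L.tor, diagonal_apply_eq] at h1
    exact (Units.ext h1).trans (hs r hr)
  have hm1 : ∀ γ : _root_.Matrix.SpecialLinearGroup (Fin 2) k, γ * h (-1) = h (-1) * γ := fun γ => by
    rw [h_neg_one, mul_neg, neg_mul, mul_one, one_mul]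
  obtain ⟨d, hd, h1, h2⟩ := S.top hp C A.g (lE L) (fun c hc => (hT c hc).imp fun _ h => h.1)
    (fun c hc => (Subgroup.closure_le (C.comap S.σ)).2 (by
      rintro _ ⟨i, rfl⟩
      refine Subgroup.subset_closure ⟨A.π i, ?_⟩
      rw [A.frob, Rsl.map_h]
      congr 2
      exact Units.ext (by simp only [_root_.Units.map_neg, _root_.map_one, _root_.Units.val_neg, _root_.Units.val_one])) hc)
    (fun m hm c hc => (Subgroup.closure_le (C.comap (MulAut.conj m).toMonoidHom)).2 (by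
      rintro _ ⟨i, rfl⟩
      obtain ⟨ρ, hρ⟩ := A.norm m hm
      obtain ⟨γ, hγ⟩ := hρ i
      refine Subgroup.subset_closure ⟨ρ i, (hγ _).trans ?_⟩
      rw [hm1, mul_inv_cancel_right]) hc)
    (fun c hc => S.mem_CA.1 ((Subgroup.closure_le S.CA).2 (by
      rintro _ ⟨i, rfl⟩
      refine S.mem_CA.2 fun x => ?_
      rw [A.res]
      refine (Commute.list_prod_left _ _ fun y hy => ?_).eq
      obtain ⟨j, rfl⟩ := List.mem_ofFn.1 hy
      by_cases hij : j = i
      · rw [hij, Commute, SemiconjBy, ← map_mul, ← map_mul, hm1]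
      · exact A.comm j i hij _ _) hc))
    (hC.elim fun i hi => ⟨_, Subgroup.subset_closure ⟨i, rfl⟩, hi⟩)
    (mem_Pl_of_tri fun x y hxy => by
      have h3 : ∀ i, lev (X (A.π i)).l (wc x) = lev (X i).l (wc y) := fun i => by
        refine (Rep2.wt_of_tw (A := (X (A.π i)).V) (A' := (X i).V) (d := 0) (fun z => ?_) hxy).trans (add_zero _)
        obtain ⟨z', hz'⟩ := (ri_bij S.prime S.alg S.s).2 (z : k)
        have h4 : z' ≠ 0 := fun e => z.ne_zero (by rw [← hz', e, map_zero])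
        have h5 : Units.map (S.s : k →* k) (Units.mk0 z' h4) = z := Units.ext hz'
        have h6 := A.frob i (h (Units.mk0 z' h4))
        rw [Rsl.map_h, h5, hA, hA, (X i).tor] at h6
        have h7 := emb_co S.s A.g (X i).l (Units.mk0 z' h4)
        rw [h5, Kf.co_apply, Kf.co_apply, ← (X i).tor z] at h7
        rw [zpow_zero, Units.val_one, one_smul, Std.V_R, Std.V_R, ← map_mul, ← map_mul]
        congr 1
        have h8 : S.σ A.g * (X i).Ξ (h z) * (S.σ A.g)⁻¹ = A.g * (X (A.π i)).Ξ (h z) * A.g⁻¹ := h7.symm.trans h6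
        rw [mul_assoc A.g⁻¹, mul_inv_eq_iff_eq_mul.1 h8]
        group
      rw [wv, wv, ← lev_cast, ← lev_cast, sum_lev, sum_lev, ← Equiv.sum_comp A.π fun i => lev (X i).l (wc x),
        Finset.sum_congr rfl fun i _ => h3 i])
    (fun c => by
      rw [A.res, show ∀ y, A.g⁻¹ * y * A.g = (MulAut.conj A.g⁻¹).toMonoidHom y from fun y => by simp only [_root_.map_inv, _root_.MulEquiv.toMonoidHom_eq_coe, _root_.MonoidHom.coe_coe, _root_.MulAut.inv_apply, _root_.MulAut.conj_symm_apply], map_list_prod]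
      refine list_prod_mem fun y hy => ?_
      obtain ⟨z, hz, rfl⟩ := List.mem_map.1 hy
      obtain ⟨j, rfl⟩ := List.mem_ofFn.1 hz
      show A.g⁻¹ * _ * A.g⁻¹⁻¹ ∈ _
      rw [inv_inv, ← hX, Rsl.map_h, (X j).tor]
      exact Phi_mem_Pl _ _)
    (fun t => by
      rw [A.res, show ∀ y, A.g⁻¹ * y * A.g = (MulAut.conj A.g⁻¹).toMonoidHom y from fun y => by simp only [_root_.map_inv, _root_.MulEquiv.toMonoidHom_eq_coe, _root_.MonoidHom.coe_coe, _root_.MulAut.inv_apply, _root_.MulAut.conj_symm_apply], map_list_prod]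
      refine list_prod_mem fun y hy => ?_
      obtain ⟨z, hz, rfl⟩ := List.mem_map.1 hy
      obtain ⟨i, rfl⟩ := List.mem_ofFn.1 hz
      show A.g⁻¹ * _ * A.g⁻¹⁻¹ ∈ _
      rw [inv_inv, ← hX, Rsl.map_u]
      refine (X i).u_mem_Ul (fun m hm x y hxy => ?_) _
      rw [wv, wv, ← lev_cast, ← lev_cast, sum_lev, sum_lev, Int.cast_lt]
      refine Finset.sum_lt_sum (fun j _ => ?_) ⟨i, Finset.mem_univ i, ?_⟩
      · by_cases hij : j = i
        · have h3 := Rep2.D_wt hxy
          rw [Std.V_n, Std.V_n] at h3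
          rw [hij]
          omega
        · exact (Rep2.wt_of_comm (A := (X j).V) (fun z => (Std.tw_V_D (fun x => hcm i j hij x _) m).symm) hxy).ge
      · have h3 := Rep2.D_wt hxy
        rw [Std.V_n, Std.V_n] at h3
        omega)
  -- the roots in the supports
  let Q : Fin A.n → ℕ → Prop := fun i r => lev (X i).l (rc r) = 2 ∧ ∀ j, j ≠ i → lev (X j).l (rc r) = 0
  have he : ∀ i (r : Fin chevE7.nroots), (X i).e (Sum.inr r) ≠ 0 → Q i r := fun i r hr =>
    ⟨(X i).e_mem _ hr, fun j hj => Rep2.mem_Wt_of_h (A := (X j).L) (j := 0) (fun z => by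
      rw [zpow_zero, Units.val_one, one_smul]
      exact Std.tw_e fun x => hcm i j hj x _) _ hr⟩
  have hf : ∀ i (r : Fin chevE7.nroots), (X i).f (Sum.inr r) ≠ 0 → Q i (125 - r) := fun i r hr => by
    refine ⟨?_, fun j hj => ?_⟩
    · rw [rc_neg r.2, lev_neg, show lev (X i).l (rc r) = -2 from (X i).f_mem _ hr, neg_neg]
    · rw [rc_neg r.2, lev_neg, show lev (X j).l (rc r) = 0 from Rep2.mem_Wt_of_h (A := (X j).L) (j := 0) (fun z => by
        rw [zpow_zero, Units.val_one, one_smul]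
        exact Std.tw_f fun x => hcm i j hj x _) _ hr, neg_zero]
  have hQ : ∀ i r, r < 126 → Q i r → Psi C A.g r ∧ bf (lE L) (rv r) = 2 := fun i r hr hq => by
    refine ⟨hΨ ⟨r, hr⟩ fun j => ?_, ?_⟩
    · by_cases hij : j = i
      · rw [hij, show lev (X i).l (rc r) = 2 from hq.1]
        exact even_two
      · rw [show lev (X j).l (rc r) = 0 from hq.2 j hij]
        exact Even.zero
    · rw [rv, ← lev_cast, sum_lev, Finset.sum_eq_single i (fun j _ hj => hq.2 j hj) (by simp only [_root_.Finset.mem_univ, _root_.not_true_eq_false, _root_.IsEmpty.forall_iff]), hq.1]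
      norm_num
  choose ρ hρ _ using fun i => (X i).exists_root
  have hd2 : d = 2 := by
    have h3 := hQ _ _ (ρ ⟨0, A.npos⟩).2 (he _ _ (hρ _))
    rcases h1 _ (ρ ⟨0, A.npos⟩).2 h3.1 with h4 | h4 | h4 <;> linarith only [h4, hd, h3.2]
  rw [hd2] at h2
  have h3 := Nat.eq_of_mul_eq_mul_left S.hb ((mul_comm _ _).trans (A.ab.symm.trans h2))
  have hinj : ∀ i j r, Q i r → Q j r → i = j := fun i j r hi hj => by
    by_contra hij
    have h4 := hj.2 i hij
    rw [hi.1] at h4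
    exact two_ne_zero h4
  have h4 : ∀ i r, r < 126 → Q i r → r = ρ i := fun i r hr hq => by
    have h5 := Finset.surjOn_of_injOn_of_card_le (s := Finset.univ) (fun i => (ρ i : ℕ))
      (t := (Finset.range 126).filter fun r => Psi C A.g r ∧ bf (lE L) (rv r) = 2)
      (fun i _ => Finset.mem_coe.2 (Finset.mem_filter.2 ⟨Finset.mem_range.2 (ρ i).2, hQ i _ (ρ i).2 (he i _ (hρ i))⟩))
      (fun i _ j _ e => hinj i j _ (he i _ (hρ i)) (by rw [show (ρ i : ℕ) = ρ j from e]; exact he j _ (hρ j)))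
      (by rw [Finset.card_univ, Fintype.card_fin]; exact h3.ge)
    obtain ⟨j, -, e⟩ := h5 (Finset.mem_coe.2 (Finset.mem_filter.2 ⟨Finset.mem_range.2 hr, hQ i r hr hq⟩))
    rw [hinj i j r hq (by rw [← show (ρ j : ℕ) = r from e]; exact he j _ (hρ j))]
    exact e.symm
  refine S.ne7 (A.ab.trans (congrArg (· * b) (en2t_seven (l := fun i => (X i).l) (c := fun i => rc (ρ i))
    (fun i => (he i _ (hρ i)).1) (fun i => (he i _ (hρ i)).2) fun ν hν => cent ν (fun i r hr => ?_) fun i r hr => ?_)))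
  · rw [h4 i r r.2 (he i r hr)]
    exact hν i
  · have h5 := hν i
    rw [← h4 i (125 - r) (by omega) (hf i r hr), rc_neg r.2, lev_neg, neg_eq_zero] at h5
    exact h5

end Sit

end Cfsg.Agent.E7P
end

-- part: E7P/En2/Main
section
set_option linter.all false
open scoped Cfsg.Agent.FastGrp

/-!
# S5932, END2: the algebraic overgroup has only one factor (helper61)
-/

set_option autoImplicit false
set_option maxRecDepth 100000
set_option maxHeartbeats 400000

namespace Cfsg.Agent.E7P.Sit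

open Cfsg Cfsg.Lie Matrix
open Cfsg.Agent.R2.T1 Cfsg.Agent.E7P.Kf Cfsg.Agent.E7P.Rsl
open Cfsg.Agent.H943.SL2Rel (u w h)

universe u v

variable {p a b : ℕ} {F : Type u} {K : Type v} {k : Type u} [Field F] [Fintype F] [Field K] [Fintype K] [Field k]
  (S : Sit p a b F K k)

theorem en2_ev (hp : p ≠ 2) (A : S.Alg) : haveI := S.closed; En2.Ev (A.fam hp) := by
  have := S.closed
  intro i r hr
  have h1 : A.Ξ i (h (-1)) ∈ Subgroup.center (Gh k) := by
    by_contra h0
    exact S.en2t_core hp A (A.X hp) (A.X_Ξ hp) (fun _ => (A.fam hp).cent0) ⟨i, h0⟩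
  have h2 : Phi k (lam (A.l i) (-1)) ∈ Subgroup.center (Gh k) := by
    rw [← A.X_l hp, ← (A.X hp i).tor, A.X_Ξ, mul_assoc, ← Subgroup.mem_center_iff.1 h1, inv_mul_cancel_left]
    exact h1
  have h3 : ch (rc r) (lam (A.l i) (-1 : kˣ)) = 1 := (isPhi.mem_iff _).1 h2 r hr
  rw [ch_lam] at h3
  by_contra h4
  have h5 := (Odd.neg_one_zpow (Int.odd_iff.2 (Int.emod_two_ne_zero.1 h4))).symm.trans h3
  have h6 : (-1 : k) = 1 := congrArg Units.val h5
  exact S.nt_two hp (by linear_combination -h6)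

/-- **END2** -/
theorem end2 (hp : p ≠ 2) (A : S.Alg) (hn : 2 ≤ A.n) : False := by
  have := S.closed
  exact En2.en2 (A.fam hp) (S.en2_ev hp A) (i := ⟨0, by omega⟩) (j := ⟨1, by omega⟩) fun e => zero_ne_one (Fin.mk.inj e)

end Cfsg.Agent.E7P.Sit
end

-- part: E7P/Sp/Main
section
prune_inst 0x746059206580000800000012b200046028000400000b840084a0070607c94c228d02a660bb1004130880900c48390408110000000200000000280400013905a190d252002300a10c460097810000400000008040000000000000000000000000000400000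
set_option linter.all false
open scoped Cfsg.Agent.FastGrp

/-!
# S5932, task SPLIT (helper37)

* `Sit.sp_ss` : unstable simple submodules of the Lie algebra;
* `Sit.sp_tri` : if the radical of the module generated by `E_j` vanishes, there is a split triple;
* `Sit.sp_split` : `S.Split` for `r = 49, 121, 169, 125`, from `NoFix` and `NONSPLIT`.
-/

set_option autoImplicit false
set_option maxRecDepth 100000

namespace Cfsg.Agent.E7P

open Cfsg Cfsg.Lie Matrix Module
open Cfsg.Agent.R2.T1 Cfsg.Agent.E7P.Kf Cfsg.Agent.E7P.Sp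
open Cfsg.Agent.H943.SL2Rel (u w h)
open Cfsg.Agent.H943.SL2Mod (Bf mem_Bf)
open Cfsg.Agent.H943.RepAdd (subRep quotRep)
open Cfsg.Agent.R2.H28.SL2

universe u v w

namespace Sp

/-- the bottom of the second layer -/
def B2 (p a j : ℕ) : ℕ := if a = 2 then p ^ a - 1 else p ^ ((j + a - 2) % a)

/-- the label of the second layer -/
def J2 (p a j : ℕ) : ℕ := if a = 2 then p ^ a - 1 - 2 * p ^ j else
  p ^ j + (p - 1) * p ^ ((j + a - 1) % a) + (p - 2) * p ^ ((j + a - 2) % a)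

/-- the finite checks -/
def Chk (p a j : ℕ) : Prop :=
  Dat p a (2 * p ^ j) (p ^ ((j + a - 1) % a)) (Wl p a j) (B2 p a j) (J2 p a j) ∧ 2 * (2 * p ^ j) % (p ^ a - 1) ≠ 0 ∧
  (∀ m < p ^ a, 1 ≤ m → dle p a m (2 * p ^ j) → m = p ^ j ∨ m = 2 * p ^ j) ∧
  ∀ b ∈ [Wl p a j, J2 p a j, p ^ a - 1 - 2 * p ^ j], b ≠ 0 ∧ ((0 < b / p ^ ((j + a - 1) % a) % p ∧
    ∑ l ∈ (Finset.range a).erase ((j + a - 1) % a), b / p ^ l % p ≤ b / p ^ ((j + a - 1) % a) % p) ∨
    133 < 2 * ∏ l ∈ Finset.range a, (b / p ^ l % p + 1))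

instance decChk (p a j : ℕ) : Decidable (Chk p a j) := by unfold Chk; infer_instance

theorem chk {p a : ℕ} (hc : (p = 5 ∧ a = 3) ∨ (a = 2 ∧ (p = 7 ∨ p = 11 ∨ p = 13))) : (∀ j < a, Chk p a j) ∧
    ∀ b < p ^ a, hb p a b ≤ ∑ j ∈ Finset.range a, if Wl p a j = b then 1 else 0 := by
  rcases hc with ⟨rfl, rfl⟩ | ⟨rfl, rfl | rfl | rfl⟩ <;> decide +kernel

theorem cyc {a : ℕ} (ha : a = 2 ∨ a = 3) {P : ℕ → Prop} (h : ∀ j < a, P j → P ((j + a - 1) % a)) (h0 : ∃ j < a, P j) :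
    ∀ j < a, P j := by
  obtain ⟨i, hi, h0⟩ := h0
  intro j hj
  rcases ha with rfl | rfl
  · have h1 : P 0 → P 1 := h 0 (by norm_num)
    have h2 : P 1 → P 0 := h 1 (by norm_num)
    interval_cases i <;> interval_cases j <;> (clear * - h0 P h1 h2; tauto)
  · have h1 : P 0 → P 2 := h 0 (by norm_num)
    have h2 : P 1 → P 0 := h 1 (by norm_num)
    have h3 : P 2 → P 1 := h 2 (by norm_num)
    interval_cases i <;> interval_cases j <;> (clear * - h0 P h1 h2 h3; tauto)

theorem Hs_le {p a : ℕ} (h : ∀ b < p ^ a, hb p a b ≤ ∑ j ∈ Finset.range a, if Wl p a j = b then 1 else 0) (s : Multiset ℕ)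
    (hs : ∀ b ∈ s, b < p ^ a) : Hs p a s ≤ ∑ j ∈ Finset.range a, s.count (Wl p a j) := by
  induction s using Multiset.induction_on with
  | empty => exact Nat.zero_le _
  | cons b s ih =>
    have h1 := ih fun c hc => hs c (Multiset.mem_cons_of_mem hc)
    have h2 := h b (hs b (Multiset.mem_cons_self _ _))
    simp only [Multiset.count_cons, Finset.sum_add_distrib]
    rw [Hs, Multiset.map_cons, Multiset.sum_cons]
    exact (add_comm _ _).trans_le (add_le_add h1 h2)

section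
variable {k : Type u} [Field k] [DecidableEq k] (p : ℕ) [Fact p.Prime] [CharP k p]

theorem card_Bf (a : ℕ) : ∀ b < p ^ a, (Bf k b).card = ∏ l ∈ Finset.range a, (b / p ^ l % p + 1) := by
  induction a with
  | zero =>
    intro b hb
    rw [show b = 0 by simpa using hb, card_Bf_zero, Finset.range_zero, Finset.prod_empty]
  | succ a ih =>
    intro b hb
    rw [card_Bf_low k p, Finset.prod_range_succ', ih _ (Nat.div_lt_of_lt_mul (by rwa [pow_succ'] at hb)), mul_comm, pow_zero,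
      Nat.div_one]
    simp only [digit_shift]

variable {F : Type w} [Field F] [Fintype F] [DecidableEq F] (ι : F →+* k) [CharP F p] [IsAlgClosed k]

theorem cf_orth {V : Type v} [AddCommGroup V] [Module k V] [FiniteDimensional k V]
    {ρ : Representation k (_root_.Matrix.SpecialLinearGroup (Fin 2) F) V} {B : V →ₗ[k] V →ₗ[k] k} (D : Dul ρ ρ B) {W : Submodule k V}
    (hW : ∀ g, ∀ x ∈ W, ρ g x ∈ W) : _root_.Cfsg.Agent.R2.H28.SL2.cf (Sy.{u, v, w} ι p) ρ =
      _root_.Cfsg.Agent.R2.H28.SL2.cf (Sy.{u, v, w} ι p) (subRep ρ _ (D.orth_inv hW)) + cf (Sy.{u, v, w} ι p) (subRep ρ W hW) := by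
  obtain ⟨B', D', -⟩ := D.sub hW
  rw [cf_add _ ρ _ (D.orth_inv hW), cf_dual ι p D']

end

end Sp

namespace Sit

variable {p a b : ℕ} {F : Type u} {K : Type v} {k : Type u} [Field F] [Fintype F] [Field K] [Fintype K] [Field k]
  (S : Sit p a b F K k)

section
variable [DecidableEq k] [DecidableEq K] [Fact p.Prime] [CharP k p] [CharP K p] (h5 : 5 ≤ p)
include h5

/-- **SS** -/
theorem sp_ss (hf : S.NoFix) {Y : Submodule k (chevE7.Idx → k)} {hY : ∀ g, ∀ y ∈ Y, S.RL g y ∈ Y} {c : ℕ}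
    (hV : IsV S.ι p (subRep S.RL Y hY) c) {i : ℕ} (hi : i < a) (he : S.br_e i = 0) (h0 : 0 < c / p ^ i % p)
    (hs : ∑ l ∈ (Finset.range a).erase i, c / p ^ l % p ≤ c / p ^ i % p) : False := by
  have := S.closed
  have hp : 0 < p := S.prime.pos
  have hn := S.nn_pos
  obtain ⟨v, hv⟩ := hV.bas
  have hc := label_lt S.ι p S.cardK hV
  have hD : ∀ n (y : Y), Dm S.ι S.RL n y = (Dm S.ι (subRep S.RL Y hY) n y : Y) := fun n y =>
    (Dm_comm S.ι (subRep S.RL Y hY) S.RL Y.subtype (fun _ _ => rfl) n y).symm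
  have h1 : ∀ N : ℕ, ∀ m ∈ Bf k c, ∑ l ∈ (Finset.range a).erase i, (Alm.dg p c l - Alm.dg p m l) < N →
      (v m : chevE7.Idx → k) ∈ S.Fg (S.nn - N * S.nn) := by
    intro N
    induction N with
    | zero => exact fun m _ h => absurd h (Nat.not_lt_zero _)
    | succ N ih =>
      intro m hm h
      rw [Nat.cast_succ, add_mul, one_mul, ← sub_sub]
      refine S.br_j1D h5 (sub_le_self _ (by (clear * - hn; positivity))) fun j hj h2 => ?_
      rw [hD, Alm.Dm_pp S.cardK hc hv hm ⟨j, hj⟩]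
      by_cases h3 : Alm.dg p c j ≤ Alm.dg p m j
      · rw [Nat.sub_eq_zero_of_le h3, Nat.cast_zero, zero_smul]
        exact zero_mem _
      have h4 : j ∈ (Finset.range a).erase i := Finset.mem_erase.2 ⟨fun e => h2 (e ▸ he), Finset.mem_range.2 hj⟩
      have h6 := Alm.dg_lt' hp c j
      have h7 := Alm.add_mem_Bf p hm (j := j) (i := 1) (by omega)
      have h8 := Alm.dg_add hp (m := m) (j := j) (i := 1) (by omega)
      rw [one_mul] at h7 h8
      refine Submodule.smul_mem _ _ (ih _ h7 (lt_of_lt_of_le (Finset.sum_lt_sum (fun l _ => ?_) ⟨j, h4, ?_⟩)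
        (Nat.lt_succ_iff.1 h)))
      · rw [h8]
        split_ifs with h9
        · rw [h9]; omega
        · exact le_rfl
      · rw [h8, if_pos rfl]; omega
  obtain ⟨s, hs'⟩ : ∃ s : ℕ, s = ∑ l ∈ (Finset.range a).erase i, c / p ^ l % p := ⟨_, rfl⟩
  have h2 : (v 0 : chevE7.Idx → k) ∈ S.Fg (-(s * S.nn)) := by
    have h2 := h1 (s + 1) 0 (Alm.zero_mem_Bf) (by
      simp only [Alm.dg_zero, Nat.sub_zero]
      exact hs' ▸ Nat.lt_succ_self _)
    rwa [show S.nn - ((s + 1 : ℕ) : ℝ) * S.nn = -(s * S.nn) by push_cast; ring] at h2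
  obtain ⟨wt, hw1, hw2, hw3⟩ : ∃ wt : ℕ → ℝ, (∀ l, S.nn ≤ wt l) ∧ S.nn < wt i ∧ ∀ m, 1 ≤ m → m ≤ Fintype.card K - 1 →
      ∀ d, ∀ y ∈ S.Fg d, Dm S.ι S.RL m y ∈ S.Fg (d + ∑ j ∈ Finset.range a, (m / p ^ j % p : ℕ) * wt j) := by
    obtain ⟨n', h3, h4⟩ := S.br_D_plus h5
    refine ⟨_, fun l => ?_, ?_, h4⟩
    · split_ifs
      · exact h3.le
      · exact le_rfl
    · rw [if_pos he]
      exact h3
  let lev : ℕ → ℝ := fun m => -(s * S.nn) + ∑ j ∈ Finset.range a, (m / p ^ j % p : ℕ) * wt j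
  have h3 : ∀ m ∈ Bf k c, (v m : chevE7.Idx → k) ∈ S.Fg (lev m) := by
    intro m hm
    rcases Nat.eq_zero_or_pos m with rfl | h3
    · simpa only [lev, _root_.Nat.zero_div, _root_.Nat.zero_mod, _root_.CharP.cast_eq_zero, _root_.MulZeroClass.zero_mul, _root_.Finset.sum_const_zero, _root_.add_zero] using h2
    have h4 := (Alm.le_of_mem_Bf hm).trans hV.1
    have h6 := hw3 m h3 h4 _ _ h2
    rw [hD, Alm.Dm_bas p hV.1 hv Alm.zero_mem_Bf h3 h4, Nat.sub_zero, zero_add] at h6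
    exact (Submodule.smul_mem_iff _ (mem_Bf.1 hm).2).1 h6
  have h4 : 0 < ∑ m : Bf k c, lev m := by
    have h4 : ∀ m ∈ Bf k c, c - m ∈ Bf k c := fun m hm =>
      mem_Bf.2 ⟨Nat.sub_le _ _, by rw [Nat.choose_symm (mem_Bf.1 hm).1]; exact (mem_Bf.1 hm).2⟩
    have h6 : ∑ m ∈ Bf k c, lev m = ∑ m ∈ Bf k c, lev (c - m) :=
      Finset.sum_nbij' (fun m => c - m) (fun m => c - m) h4 h4 (fun m hm => Nat.sub_sub_self (mem_Bf.1 hm).1)
        (fun m hm => Nat.sub_sub_self (mem_Bf.1 hm).1) fun m hm => by rw [Nat.sub_sub_self (mem_Bf.1 hm).1]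
    have h7 : (s : ℝ) * S.nn + (c / p ^ i % p : ℕ) * wt i ≤ ∑ j ∈ Finset.range a, (c / p ^ j % p : ℕ) * wt j := by
      rw [← Finset.sum_erase_add _ _ (Finset.mem_range.2 hi), hs', Nat.cast_sum, Finset.sum_mul]
      exact add_le_add_left (Finset.sum_le_sum fun l _ => mul_le_mul_of_nonneg_left (hw1 l) (Nat.cast_nonneg _)) _
    have h8 : (s : ℝ) * S.nn < (c / p ^ i % p : ℕ) * wt i :=
      lt_of_le_of_lt (mul_le_mul_of_nonneg_right (by exact_mod_cast hs' ▸ hs) hn.le)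
        (mul_lt_mul_of_pos_left hw2 (by exact_mod_cast h0))
    have h9 : 0 < ∑ m ∈ Bf k c, (lev m + lev (c - m)) := Finset.sum_pos (fun m hm => by
      have h9 : ∑ j ∈ Finset.range a, ((m / p ^ j % p : ℕ) : ℝ) * wt j + ∑ j ∈ Finset.range a, ((c - m) / p ^ j % p : ℕ) * wt j =
          ∑ j ∈ Finset.range a, (c / p ^ j % p : ℕ) * wt j := by
        rw [← Finset.sum_add_distrib]
        refine Finset.sum_congr rfl fun j _ => ?_
        have h10 : (c - m) / p ^ j % p = c / p ^ j % p - m / p ^ j % p := Alm.dg_sub hc hm j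
        have h11 : m / p ^ j % p ≤ c / p ^ j % p := (Alm.mem_Bf_iff p).1 hm j
        rw [← add_mul, ← Nat.cast_add, h10, Nat.add_sub_cancel' h11]
      show 0 < -(s * S.nn) + _ + (-(s * S.nn) + _)
      linarith only [h7, h8, h9]) ⟨0, Alm.zero_mem_Bf⟩
    rw [Finset.sum_add_distrib, ← h6] at h9
    rw [Finset.sum_coe_sort (Bf k c) lev]
    linarith only [h9]
  have hU : Unst (fun x : Bf k c → chevE7.Idx => ∑ t, ac (x t)) (powR _ (adM k)) (PX (Bf k c) fun _ : Unit => Y.subtype) :=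
    unst_PX (PX_ne ⊤ (by rw [finrank_top, finrank_eq_card_basis (Basis.mk hv.li hv.sp)]) fun y _ hy => Subtype.ext (hy ()))
      S.g0 S.β fun b' m x hd => h4.trans_le (sum_le_of_det
        (fun t => LinearMap.proj (x t) ∘ₗ toLin' (adM k S.g0⁻¹) ∘ₗ Y.subtype) b' (fun m => v m) ⊥
        (fun t y hy => by rw [show y = 0 from hy, map_zero]) (fun y => Submodule.mem_sup_left (hv.sp trivial))
        (fun m => lev m) _ (fun t m hm => h3 m m.2 (x t) hm) hd)
  obtain ⟨g, β, h6, h7, -, h8, -⟩ := (wrep_L.pow _).kempf hU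
  refine S.irr_odd (by omega) hf h6 h7 fun x => h8 _ ?_
  rw [← map_inv]
  exact PX_stab (fun y : Y => ⟨_, hY x⁻¹ y y.2⟩) id fun _ y => (S.br_RL _ _).symm

omit [DecidableEq k] [DecidableEq K] [Fact p.Prime] [CharP k p] [CharP K p] in
theorem sp_hw {j : ℕ} (hj : j < a) : Hw S.ι S.RL (2 * p ^ j) (S.br_E (p ^ j)) :=
  ⟨fun t => by rw [br_RL, S.br_E_fix h5], fun z => by rw [br_RL, S.br_E_wt h5 (S.br_pow hj).2, ← pow_mul, mul_comm]⟩

/-- the split case -/
theorem sp_tri {j : ℕ} (hj : j < a) (he : S.br_e j ≠ 0) (hc : 2 * p ^ j < p ^ a - 1)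
    (hd : ∀ m < p ^ a, 1 ≤ m → dle p a m (2 * p ^ j) → m = p ^ j ∨ m = 2 * p ^ j)
    (hM : Mr S.ι S.RL (2 * p ^ j) (S.br_E (p ^ j)) = ⊥) : S.Split := by
  have hE := S.sp_hw h5 hj
  have hK := S.cardK
  have hp := (S.br_pow hj).1
  have h1 : ∀ m, 1 ≤ m → m ≤ Fintype.card K - 1 → m ≠ p ^ j → m ≠ 2 * p ^ j → xm S.ι S.RL (S.br_E (p ^ j)) m = 0 := by
    intro m h1 h2 h3 h4
    refine (Submodule.mem_bot k).1 (hM ▸ xm_mem h1 h2 ((not_dle p (a := a) (by omega)).1 fun h => ?_))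
    exact (hd m (by omega) h1 h).elim h3 h4
  have h2 : xm S.ι S.RL (S.br_E (p ^ j)) (2 * p ^ j) = S.br_E (p ^ j) := by
    have h2 := (Submodule.mem_bot k).1 (hM ▸ wx_mem (ι := S.ι) (ρ := S.RL) (c := 2 * p ^ j) (E := S.br_E (p ^ j)))
    rwa [hE.w_Q (by omega), pow_mul, neg_one_sq, one_pow, one_smul, sub_eq_zero] at h2
  refine ⟨j, S.br_E (p ^ j), -xm S.ι S.RL (S.br_E (p ^ j)) (p ^ j), -S.RL w (S.br_E (p ^ j)), hj,
    ⟨fun h => he (by rw [br_e, h, map_zero]), S.br_E_fix h5 _, fun t => ?_, fun t => ?_, ?_, ?_,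
      S.br_E_wt h5 (S.br_pow hj).2⟩, S.br_E_mem h5 _⟩
  · rw [← br_RL, map_neg, u_eq S.ι S.RL p, Finset.sum_eq_single (p ^ j)]
    · have h3 := D_x (ι := S.ι) (ρ := S.RL) p hK hp (m' := 2 * p ^ j) (by omega) (by omega) (S.RL w (S.br_E (p ^ j)))
      have h4 := choose_mul_pow (k := k) p 2 1 j
      rw [one_mul] at h4
      rw [show 2 * p ^ j - p ^ j = p ^ j by omega, h4] at h3
      rw [show Dm S.ι S.RL (p ^ j) (xm S.ι S.RL (S.br_E (p ^ j)) (p ^ j)) = _ from h3,
        show Dm S.ι S.RL (2 * p ^ j) _ = _ from h2, smul_smul, neg_add', mul_comm]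
      norm_num
    · intro n hn h3
      exact smul_eq_zero_of_right _ (D_mem (T := ⊥) p hK hp (by omega) (Finset.mem_Icc.1 hn).1 (Finset.mem_Icc.1 hn).2
        fun h4 _ => h1 _ (by omega) h4 (by have := (Finset.mem_Icc.1 hn).1; omega) (by omega))
    · exact fun h => absurd (Finset.mem_Icc.2 (S.br_pow hj)) h
  · rw [← br_RL, map_neg, u_eq S.ι S.RL p, Finset.sum_eq_add_of_mem (p ^ j) (2 * p ^ j) (Finset.mem_Icc.2 (S.br_pow hj))
      (Finset.mem_Icc.2 ⟨by omega, by omega⟩) (by omega) fun n hn h3 => smul_eq_zero_of_right _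
        (show Dm S.ι S.RL n _ = 0 from h1 n (Finset.mem_Icc.1 hn).1 (Finset.mem_Icc.1 hn).2 h3.1 h3.2), show Dm S.ι S.RL (2 * p ^ j) _ = _ from h2,
      mul_comm 2, pow_mul, smul_neg, xm]
    abel
  · rw [neg_neg, br_RL]
  · rw [← br_RL, map_neg, hE.w_x' (m' := p ^ j) (by omega) (by omega) (by omega), neg_one_pp, neg_one_smul]

end

/-- **SPLIT** -/
theorem sp_split (hc : (p = 5 ∧ a = 3) ∨ (a = 2 ∧ (p = 7 ∨ p = 11 ∨ p = 13))) (hf : S.NoFix) (hN : S.NONSPLIT) : S.Split := by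
  classical
  have := S.chark
  have := S.charK
  have := S.closed
  have : Fact p.Prime := ⟨S.prime⟩
  have h5 : 5 ≤ p := by omega
  have hK := S.cardK
  obtain ⟨hchk, hhb⟩ := _root_.Cfsg.Agent.E7P.Sp.chk hc
  by_contra hns
  have h2 : (2 : k) ≠ 0 := Br.two_ne (S.br_h12 h5)
  have D : Dul S.RL S.RL (kf k) :=
    ⟨fun g x y => kf_L _ x y, fun x hx => kf_nondeg h2 fun y => by rw [kf_comm, hx], fun y hy => kf_nondeg h2 hy⟩
  have hM : ∀ j < a, ∀ g, ∀ y ∈ Mr S.ι S.RL (2 * p ^ j) (S.br_E (p ^ j)), S.RL g y ∈ Mr S.ι S.RL (2 * p ^ j) (S.br_E (p ^ j)) :=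
    fun j hj => (S.sp_hw h5 hj).Mr_inv p hK (hchk j hj).1.1 (hK ▸ (hchk j hj).1.2.1)
  have h0 : ∀ j < a, S.br_e j ≠ 0 → Mr S.ι S.RL (2 * p ^ j) (S.br_E (p ^ j)) ≠ ⊥ := fun j hj he h =>
    hns (S.sp_tri h5 hj he (hchk j hj).1.2.1 (hchk j hj).2.2.1 h)
  have hm := isMult_cf S.ι p hK S.RL
  have h1 : ∀ j (hj : j < a), ∀ c ∈ _root_.Cfsg.Agent.R2.H28.SL2.cf (Sy.{u, u, v} S.ι p) (subRep S.RL _ (hM j hj)),
      2 ≤ (_root_.Cfsg.Agent.R2.H28.SL2.cf (Sy.{u, u, v} S.ι p) S.RL).count c := by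
    intro j hj c hc
    have hE := S.sp_hw h5 hj
    have h1 : kf k (S.br_E (p ^ j)) (S.br_E (p ^ j)) = 0 := by
      by_contra h1
      refine (hchk j hj).2.1 ?_
      rw [← hK, ← Nat.zero_mod (Fintype.card K - 1)]
      refine mod_of_pow S.ι fun z => mul_right_cancel₀ h1 ?_
      rw [pow_zero, one_mul]
      conv_rhs => rw [← D.inv (h z), hE.h, map_smul, map_smul, LinearMap.smul_apply, smul_smul, ← pow_add, ← two_mul]
      rfl
    have h3 := Multiset.mem_of_le (cf_mono (Sy.{u, u, v} S.ι p) _ (D.orth_inv (hM j hj))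
      (hE.Mr_orth p hK (hchk j hj).1.1 (hK ▸ (hchk j hj).1.2.1) D h1)) hc
    rw [cf_orth p S.ι D (hM j hj), Multiset.count_add]
    exact add_le_add (Multiset.one_le_count_iff_mem.2 h3) (Multiset.one_le_count_iff_mem.2 hc)
  have h3 : ∀ j < a, S.br_e j ≠ 0 := by
    refine cyc (by omega) (fun j hj he h3 => ?_) (S.br_exists_e h5)
    obtain ⟨Y, hY, c, h4, h6, h7⟩ := ((S.sp_hw h5 hj).str p hK (hchk j hj).1).resolve_left (h0 j hj he)
    rcases ((hchk j hj).2.2.2 c (by simpa only [_root_.List.mem_cons, _root_.List.not_mem_nil, _root_.or_false] using h7.imp_right And.left)).2 with h8 | h8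
    · exact S.sp_ss h5 hf h6 (Nat.mod_lt _ (by omega)) h3 h8.1 h8.2
    · have h9 := label_lt S.ι p hK h6
      have h10 := Finset.single_le_sum (f := fun b => (_root_.Cfsg.Agent.R2.H28.SL2.cf (Sy.{u, u, v} S.ι p) S.RL).count b * (Bf k b).card)
        (fun _ _ => Nat.zero_le _) (Finset.mem_range.2 h9)
      rw [← hm.dim, finrank_fintype_fun_eq_card, show Fintype.card chevE7.Idx = 133 by decide +kernel, card_Bf p a c h9] at h10
      exact absurd (h8.trans_le (Nat.mul_le_mul_right _ (h1 j hj c (mem_cf_of_le S.ι p h6 _ h4)))) (not_lt.2 h10)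
  have h4 := fun j hj => (S.sp_hw h5 hj).cf_Mr p hK (hchk j hj).1 (hM j hj)
  have h6 : ∀ t ≤ a, ∃ (R : Submodule k (chevE7.Idx → k)) (hR : ∀ g, ∀ y ∈ R, S.RL g y ∈ R),
      0 ∉ _root_.Cfsg.Agent.R2.H28.SL2.cf (Sy.{u, u, v} S.ι p) (subRep S.RL R hR) ∧ ∀ j < t, Wl p a j ∈ _root_.Cfsg.Agent.R2.H28.SL2.cf (Sy.{u, u, v} S.ι p) (subRep S.RL R hR) := by
    intro t
    induction t with
    | zero =>
      refine fun _ => ⟨⊥, fun g y hy => by rw [show y = 0 from hy, map_zero]; exact zero_mem _, ?_, fun j hj => absurd hj (by omega)⟩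
      rw [cf_zero]
      exact Multiset.notMem_zero _
    | succ t ih =>
      intro ht
      obtain ⟨R, hR, h6, h7⟩ := ih (by omega)
      refine ⟨_, sup_inv hR (hM t ht), fun h8 => (mem_cf_sup _ hR (hM t ht) h8).elim h6 fun h9 => ?_, fun j hj => ?_⟩
      · exact ((hchk t ht).2.2.2 0 (by simpa only [_root_.List.mem_cons, _root_.List.not_mem_nil, _root_.or_false] using (h4 t ht).1 0 h9)).1 rfl
      · rcases (Nat.lt_succ_iff.1 hj).eq_or_lt with rfl | hj
        · exact Multiset.mem_of_le (cf_mono _ _ _ le_sup_right) ((h4 j ht).2 (h0 j ht (h3 j ht)))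
        · exact Multiset.mem_of_le (cf_mono _ _ _ le_sup_left) (h7 j hj)
  obtain ⟨R, hR, h7, h8⟩ := h6 a le_rfl
  refine hN _ hm (fun j hj => ⟨?_, h1 j hj _ ((h4 j hj).2 (h0 j hj (h3 j hj)))⟩) ?_
  · obtain ⟨c, h9, h10⟩ := mem_cf_of_hw S.ι p (fun h => h3 j hj (by rw [br_e, h, map_zero])) (S.sp_hw h5 hj).u (S.sp_hw h5 hj).h
    have h11 := hm.supp c (Multiset.count_ne_zero.2 h9)
    have h12 := (hchk j hj).1.1
    have h13 := (hchk j hj).1.2.1
    rw [hK, Nat.mod_eq_of_lt h13] at h10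
    rcases (show c ≤ p ^ a - 1 by omega).eq_or_lt with h14 | h14
    · rw [h14, Nat.mod_self] at h10
      omega
    · rw [Nat.mod_eq_of_lt h14] at h10
      exact Multiset.one_le_count_iff_mem.2 (h10 ▸ h9)
  · have h9 := pressure_cf S.ι p hK (subRep S.RL _ (D.orth_inv hR))
    rw [fx_eq_bot (fun x hx => Subtype.ext (hf x fun g => by
      rw [← br_RL]; exact congrArg Subtype.val (hx g))), zero_add] at h9
    have h10 := Hs_le hhb _ fun c hc => (isMult_cf S.ι p hK (subRep S.RL _ (D.orth_inv hR))).supp c (Multiset.count_ne_zero.2 hc)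
    have h11 : a ≤ ∑ j ∈ Finset.range a, (_root_.Cfsg.Agent.R2.H28.SL2.cf (Sy.{u, u, v} S.ι p) (subRep S.RL R hR)).count (Wl p a j) := by
      have h11 := Finset.card_nsmul_le_sum (Finset.range a) _ 1 fun j hj =>
        Multiset.one_le_count_iff_mem.2 (h8 j (Finset.mem_range.1 hj))
      rwa [Finset.card_range, smul_eq_mul, mul_one] at h11
    simp only [cf_orth p S.ι D hR, Multiset.count_add, Finset.sum_add_distrib, Multiset.count_eq_zero_of_notMem h7]
    omega

end Sit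

end Cfsg.Agent.E7P

private theorem dce_b06310e86505 : _root_.True := by
  try have : _root_.True := by simp only [_root_.Cfsg.Agent.R2.H28.SL2.Hs.eq_1]
  try have : _root_.True := by simp only [_root_.Cfsg.Agent.H943.RepAdd.subRep.congr_simp]
  exact _root_.True.intro
end

-- part: E7P/Ag/Rts
section
prune_inst 0x30007564658000080818051062002462ac000492006bc800c12002440ec9ad4320030f61bf30161a81f82af46839444811000129428000000a1c0c00413905a1808010002000411d460011808808400000008040000000000000000000000004000400000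
set_option linter.all false
open scoped Cfsg.Agent.FastGrp

/-!
# S5932, ALG-7: the root groups of the algebraic overgroup, `Sit.rts` (helper72)
-/

set_option autoImplicit false
set_option linter.unusedSectionVars false

namespace Cfsg.Agent.E7P

open Cfsg Cfsg.Lie Matrix Module
open Cfsg.Agent.H943.E7V.Block (D1 rho)
open Cfsg.Agent.R2.T1 Cfsg.Agent.E7P.Kf
open Cfsg.Agent.H943.SL2Rel (u w h u_add u_zero u_neg h_u)

universe u v

namespace Rt

section PL

variable {k : Type u} [Field k] {x : k → Gh k}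

theorem pl_scale (hx : PL x) {c : k} (hc : c ≠ 0) : PL fun t => x (c * t) := by
  obtain ⟨N, D, h1, h2⟩ := hx
  refine ⟨N, fun m => c ^ m • D m, fun t => ?_, smul_ne_zero (pow_ne_zero 1 hc) h2⟩
  rw [h1]
  exact Finset.sum_congr rfl fun m _ => by rw [smul_smul, mul_pow, mul_comm]

theorem pl_conj (hx : PL x) (g : Gh k) : PL fun t => g * x t * g⁻¹ := by
  obtain ⟨N, D, h1, h2⟩ := hx
  refine ⟨N, fun m => rho k g * D m * rho k g⁻¹, fun t => ?_, fun h0 => h2 ?_⟩
  · rw [map_mul, map_mul, h1, Finset.mul_sum, Finset.sum_mul]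
    exact Finset.sum_congr rfl fun m _ => by rw [mul_smul_comm, smul_mul_assoc]
  · have h3 := congrArg (fun A => rho k g⁻¹ * A * rho k g) h0
    simp only [← mul_assoc, ← map_mul, inv_mul_cancel, map_one, one_mul, mul_zero, zero_mul] at h3
    rwa [mul_assoc, ← map_mul, inv_mul_cancel, map_one, mul_one] at h3

theorem pl_emb (hx : PL x) (s : k ≃+* k) : PL fun t => emb (s : k →+* k) (x (s.symm t)) := by
  obtain ⟨N, D, h1, h2⟩ := hx
  refine ⟨N, fun m => (D m).map s, fun t => ?_, fun h0 => h2 ?_⟩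
  · rw [rho_emb, h1]
    ext i j
    simp only [Matrix.map_apply, Matrix.sum_apply, Matrix.smul_apply, smul_eq_mul, map_sum, map_mul, map_pow,
      RingHom.coe_coe, RingEquiv.apply_symm_apply]
  · ext i j
    exact s.injective ((congrFun (congrFun h0 i) j).trans (map_zero s).symm)

end PL

variable {p a b : ℕ} {F : Type u} {K : Type v} {k : Type u} [Field F] [Fintype F] [Field K] [Fintype K] [Field k]
  {S : Sit p a b F K k} {I : Type} [Fintype I] [DecidableEq I] {R : Gh k →* Matrix I I k} {W : Submodule k (I → k)}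
  {C : S.Sec R W} (hS : S.Sig R W)

/-- the Frobenius endomorphism of the ring -/
theorem exists_frob : ∃ ν : Br C hS →+* Br C hS, Function.Injective ν ∧ (∀ x, S.σ (xi hS x) = xi hS (ν x)) ∧
    ∀ x, ν x = x ↔ ∃ t, x = ib C hS t := by
  obtain ⟨ν, h1, h2⟩ := exists_end (C := C) hS S.σ (emb_injective S.s) hS.σU hS.σS 1 (RingHom.id K)
    (fun t => by rw [S.k_σ_ψ, Units.val_one, one_mul, RingHom.id_apply]) fun z => S.k_σ_ψ _
  simp only [Units.val_one, map_one, one_mul] at h2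
  refine ⟨ν, h1, h2, fun x => ⟨fun h3 => ?_, ?_⟩⟩
  · obtain ⟨t, ht⟩ := hS.fix _ (xi_mem hS x) (by rw [h2, h3])
    exact ⟨t, xi_inj hS (by rw [ht, xi_ib])⟩
  · rintro ⟨t, rfl⟩
    exact xi_inj hS (by rw [← h2, xi_ib, S.k_σ_ψ])

theorem idem_ib {t : K} (h1 : ib C hS t * ib C hS t = ib C hS t) : ib C hS t = 0 ∨ ib C hS t = 1 := by
  have h2 : t * t = t := S.ψ_u_inj (by rw [← xi_ib (C := C) hS, ← xi_ib (C := C) hS, map_mul, h1])
  rcases IsIdempotentElem.iff_eq_zero_or_one.1 h2 with h3 | h3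
  · exact Or.inl (by rw [h3, map_zero])
  · exact Or.inr (by rw [h3, map_one])

/-- the normalised decomposition -/
theorem exists_dec (hD : RINGD k) (hA : ADDPOLY k) : ∃ n, 0 < n ∧ ∃ (Θ : Br C hS ≃+* (Fin n → k)) (cls : C.J → Fin n)
    (φ : C.J → (k ≃+* k)), (∀ x j, x.1 j = φ j (Θ x (cls j))) ∧ ∀ i, PL fun t => xi hS (Θ.symm (Pi.single i t)) := by
  have := S.closed
  have := C.fin
  obtain ⟨ν, h1, -, h2⟩ := exists_frob (C := C) hS
  obtain ⟨n, hn, Θ, cls, φ, h3, h4⟩ := hD C.J (Br C hS) ν h1 (fun x hx h5 => by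
    obtain ⟨t, rfl⟩ := (h2 x).1 hx
    exact idem_ib hS h5) (onto hS)
  have key : ∀ i, ∃ θ : k ≃+* k, PL fun t => xi hS (Θ.symm (Pi.single i (θ t))) := fun i => by
    obtain ⟨j, rfl⟩ := h3 i
    rcases coord hS j with ⟨g, l, hg, m, hm, h5⟩ | h5
    · have hs : ∀ z, co g l z ∈ S.Sg R W := fun z => Subgroup.subset_closure ⟨g, l, z, hg, rfl⟩
      obtain ⟨θ, hθ⟩ := hA (fun t => xi hS (Θ.symm (Pi.single (cls j) ((φ j).symm t)))) (m j)
        (fun s t => by rw [map_add, Pi.single_add, map_add, xi_add]) ⟨1, fun h6 => by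
        have h7 : xi (C := C) hS 0 = 1 := by rw [← map_zero (ib C hS), xi_ib, u_zero, map_one]
        have h8 := congrFun (Θ.symm.injective ((xi_inj hS (h6.trans h7.symm)).trans (map_zero _).symm)) (cls j)
        rw [Pi.single_eq_same, map_one] at h8
        exact one_ne_zero h8⟩ h5 (by
        have h6 : ∀ z : kˣ, xi hS (Θ.symm (Pi.single (cls j) ((φ j).symm ((z ^ m j : kˣ) : k)))) =
            co g l z * xi hS (Θ.symm (Pi.single (cls j) 1)) * (co g l z)⁻¹ := fun z => by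
          rw [← xi_sc hS (c := ⟨_, Sc.mem hS (hm z) (hs z)⟩) (hm z) (hS.sU _ (hs z))]
          congr 1
          refine Θ.injective ?_
          rw [map_mul, RingEquiv.apply_symm_apply, RingEquiv.apply_symm_apply, ← Pi.single_mul_right, mul_one]
          congr 1
          exact (φ j).symm_apply_eq.2 (h4 ⟨_, Sc.mem hS (hm z) (hs z)⟩ j)
        simp only [h6]
        exact Reg.mul (Reg.mul (co_mem_Reg g l) (Reg.const _ _)) (Reg.inv (co_mem_Reg g l)))
      exact ⟨θ.trans (φ j).symm, hθ⟩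
    · exfalso
      refine not_finite_iff_infinite.2 (inferInstance : Infinite k) (Finite.of_surjective (C.ι j) fun t => ?_)
      obtain ⟨s, hs⟩ := h5 (Θ.symm (Pi.single (cls j) ((φ j).symm t)))
      rw [h4, RingEquiv.apply_symm_apply, Pi.single_eq_same, RingEquiv.apply_symm_apply] at hs
      exact ⟨s, hs.symm⟩
  choose θ hθ using key
  refine ⟨n, hn, Θ.trans (RingEquiv.piCongrRight fun i => (θ i).symm), cls, fun j => (θ (cls j)).trans (φ j),
    fun x j => ?_, fun i => ?_⟩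
  · rw [h4]
    exact congrArg (φ j) ((θ (cls j)).apply_symm_apply _).symm
  · have h5 : ∀ t, (Θ.trans (RingEquiv.piCongrRight fun i => (θ i).symm)).symm (Pi.single i t) =
        Θ.symm (Pi.single i (θ i t)) := fun t =>
      congrArg Θ.symm (funext fun j => Pi.apply_single (fun j => θ j) (fun j => map_zero _) i t j)
    simp only [h5]
    exact hθ i

end Rt

open Rt in
/-- **ALG-7** -/
theorem Sit.rts {p a b : ℕ} {F : Type u} {K : Type v} {k : Type u} [Field F] [Fintype F] [Field K] [Fintype K] [Field k]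
    (S : Sit p a b F K k) {I : Type} [Fintype I] [DecidableEq I] {R : Gh k →* Matrix I I k} {W : Submodule k (I → k)}
    (hS : S.Sig R W) (C : S.Sec R W) (hD : RINGD k) (hE : RINGE k) (hC : COUNT k (p ^ b)) (hA : ADDPOLY k)
    (hU : UNIQ k) : Nonempty S.Rts := by
  have := S.closed
  obtain ⟨n, hn, Θ, cls, φ, h1, h2⟩ := exists_dec (C := C) hS hD hA
  obtain ⟨ν, h3, h4, h5⟩ := exists_frob (C := C) hS
  have hend : ∀ μ : Br C hS →+* Br C hS, Function.Injective μ → ∃ (π : Equiv.Perm (Fin n)) (φ : Fin n → (k ≃+* k)),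
      (∀ i t, μ (Θ.symm (Pi.single i t)) = Θ.symm (Pi.single (π i) (φ i t))) ∧
      ((∀ x, μ x = x → x * x = x → x = 0 ∨ x = 1) → ∀ i j, ∃ m : ℕ, (π ^ m) i = j) := fun μ hμ => by
    obtain ⟨π, φ, h6, h7⟩ := hE n ((Θ : Br C hS →+* (Fin n → k)).comp (μ.comp (Θ.symm : (Fin n → k) →+* Br C hS)))
      (Θ.injective.comp (hμ.comp Θ.symm.injective))
    refine ⟨π, φ, fun i t => Θ.eq_symm_apply.2 (h6 i t), fun h8 => h7 fun x hx h9 => ?_⟩
    rcases h8 (Θ.symm x) (Θ.eq_symm_apply.2 hx) (by rw [← map_mul, h9]) with h10 | h10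
    · exact Or.inl (Θ.symm.injective (h10.trans (map_zero _).symm))
    · exact Or.inr (Θ.symm.injective (h10.trans (map_one _).symm))
  obtain ⟨π, φ', h6, h7⟩ := hend ν h3
  have h8 := h7 fun x hx h9 => by
    obtain ⟨t, rfl⟩ := (h5 x).1 hx
    exact idem_ib hS h9
  let s : k ≃+* k := RingEquiv.ofBijective S.s ⟨S.s.injective, fun t => by
    obtain ⟨y, hy⟩ := IsAlgClosed.exists_pow_nat_eq t (Nat.card_pos (α := F))
    exact ⟨y, (S.frob y).trans hy⟩⟩
  have h9 : ∀ i t, φ' i t = S.s t := fun i t => by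
    have h10 := pl_emb (h2 i) s
    have h11 : ∀ t, emb (s : k →+* k) (xi hS (Θ.symm (Pi.single i (s.symm t)))) =
        xi hS (Θ.symm (Pi.single (π i) ((s.symm.trans (φ' i) : k →+* k) t))) := fun t =>
      (h4 _).trans (congrArg _ (h6 i _))
    simp only [h11] at h10
    have h12 := hU _ _ (h2 (π i)) h10 (s t)
    exact (congrArg (φ' i) (s.symm_apply_apply t)).symm.trans h12
  have hsum : ∀ v : Fin n → k, Θ.symm v = ∑ i, Θ.symm (Pi.single i (v i)) := fun v => by
    rw [← map_sum, Finset.univ_sum_single]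
  have h10 : ∀ (v : Fin n → k) i, Θ (ν (Θ.symm v)) (π i) = v i ^ p ^ b := fun v i => by
    rw [hsum, map_sum]
    simp only [h6, h9]
    rw [← map_sum, RingEquiv.apply_symm_apply, Finset.sum_apply, Finset.sum_eq_single i, Pi.single_eq_same, S.frob,
      Nat.card_eq_fintype_card, S.cardF]
    · exact fun j _ hj => Pi.single_eq_of_ne (fun e => hj (π.injective e).symm) _
    · exact fun h => absurd (Finset.mem_univ i) h
  have hab : a = n * b := by
    have h11 := hC n π hn h8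
    have h12 : Nat.card K = Nat.card {v : Fin n → k | ∀ i, v (π i) = v i ^ p ^ b} := by
      refine Nat.card_congr (Equiv.ofBijective (fun t => ⟨Θ (ib C hS t), fun i => ?_⟩) ⟨fun s t e => ?_, fun v => ?_⟩)
      · rw [← h10, RingEquiv.symm_apply_apply, (h5 _).2 ⟨t, rfl⟩]
      · exact S.ψ_u_inj (by
          rw [← xi_ib (C := C) hS, ← xi_ib (C := C) hS, Θ.injective (congrArg Subtype.val e)])
      · obtain ⟨t, ht⟩ := (h5 (Θ.symm v.1)).1 (Θ.eq_symm_apply.2 (funext fun j => by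
          obtain ⟨i, rfl⟩ := π.surjective j
          rw [h10, v.2]))
        exact ⟨t, Subtype.ext (Θ.symm_apply_eq.1 ht).symm⟩
    rw [h11, Nat.card_eq_fintype_card, S.cardK, ← pow_mul, mul_comm] at h12
    exact Nat.pow_right_injective S.prime.two_le h12
  let lift : Gh k × (Fin n → SpecialLinearGroup (Fin 2) k) →* Gh k × (C.J → SpecialLinearGroup (Fin 2) k) :=
    (MonoidHom.id _).prodMap (MonoidHom.pi fun j =>
      (SpecialLinearGroup.map (φ j : k →+* k)).comp (Pi.evalMonoidHom (fun _ => SpecialLinearGroup (Fin 2) k) (cls j)))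
  refine ⟨{ n := n
            npos := hn
            ab := hab
            x := fun i t => xi hS (Θ.symm (Pi.single i t))
            add := fun i s t => by rw [Pi.single_add, map_add, xi_add]
            pl := h2
            π := π
            trans := h8
            frob := fun i t => by rw [h4, h6, h9]
            τ := fun i => (Pi.evalRingHom (fun _ => k) i).comp ((Θ : Br C hS →+* (Fin n → k)).comp (ib C hS))
            res := fun t => ?_
            norm := fun m hm c α hα => ?_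
            Γ := C.Γ.comap lift
            N := C.N
            hN := C.hN
            ker := fun y hy => C.ker y ?_
            xΓ := fun i t => ?_
            wΓ := ?_ }⟩
  · let ξ : Multiplicative (Br C hS) →* Gh k := MonoidHom.mk' (fun x => xi hS x.toAdd) fun x y => xi_add hS _ _
    have h11 := map_list_prod ξ (List.ofFn fun i => Multiplicative.ofAdd (Θ.symm (Pi.single i (Θ (ib C hS t) i))))
    rw [List.prod_ofFn, ← ofAdd_sum, ← hsum, RingEquiv.symm_apply_apply, List.map_ofFn] at h11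
    exact (xi_ib hS t).symm.trans h11
  · have hnb : S.NB m := ⟨hm, c, α, hα⟩
    obtain ⟨μ, h11, h12⟩ := exists_end (C := C) hS (MulAut.conj m).toMonoidHom (MulAut.conj m).injective
      (hS.nbU m hnb) (hS.nbS m hnb) c α (fun t => (hα _).symm.trans (by rw [aut_u]; rfl))
      fun z => (hα _).symm.trans (by rw [aut_h]; rfl)
    obtain ⟨ρ, φ'', h13, -⟩ := hend μ h11
    have h14 : ∀ i t, m * xi hS (Θ.symm (Pi.single i t)) * m⁻¹ =
        xi hS (Θ.symm (Pi.single (ρ i) (Θ (ib C hS c) (ρ i) * φ'' i t))) := fun i t => by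
      refine (h12 _).trans (congrArg _ (Θ.injective ?_))
      rw [h13, map_mul, RingEquiv.apply_symm_apply, RingEquiv.apply_symm_apply, ← Pi.single_mul_right]
    refine ⟨ρ, fun i t => ?_⟩
    have h15 : Θ (ib C hS c) (ρ i) ≠ 0 :=
      ((c.isUnit.map (ib C hS)).map Θ).map (Pi.evalRingHom (fun _ => k) (ρ i)) |>.ne_zero
    have h16 := pl_conj (h2 i) m
    simp only [h14] at h16
    rw [h14, show φ'' i t = t from hU _ (φ'' i : k →+* k) (pl_scale (h2 (ρ i)) h15) h16 t]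
    rfl
  · have h11 : (y, fun j => SpecialLinearGroup.map (φ j : k →+* k) (1 : SpecialLinearGroup (Fin 2) k)) ∈ C.Γ := hy
    simp only [map_one] at h11
    exact h11
  · have h11 : ∀ j, SpecialLinearGroup.map (φ j : k →+* k)
        ((Pi.mulSingle i (u t) : Fin n → SpecialLinearGroup (Fin 2) k) (cls j)) =
        u ((Θ.symm (Pi.single i t)).1 j) := fun j => by
      rw [h1, RingEquiv.apply_symm_apply]
      by_cases h12 : cls j = i
      · rw [h12, Pi.single_eq_same, Pi.mulSingle_eq_same, Rt.map_u]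
        rfl
      · rw [Pi.single_eq_of_ne h12, Pi.mulSingle_eq_of_ne h12, map_zero, map_one, u_zero]
    change (xi hS (Θ.symm (Pi.single i t)), fun j => SpecialLinearGroup.map (φ j : k →+* k)
      ((Pi.mulSingle i (u t) : Fin n → SpecialLinearGroup (Fin 2) k) (cls j))) ∈ C.Γ
    simp only [h11]
    exact xi_rel hS _
  · have h11 := C.res w
    change (S.ψ w, fun j => SpecialLinearGroup.map (φ j : k →+* k) (w : SpecialLinearGroup (Fin 2) k)) ∈ C.Γ
    simp only [Rt.map_w] at h11 ⊢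
    exact h11

end Cfsg.Agent.E7P
end

-- part: E7P/E81/Main
section
prune_inst 0x74606d246480000800000500d2000026ec00049000230c00cc60084409892b008d000f402720100b086ea2080031044811000020428000000a3c000040210401805252009208e11d660011810008400000008040000000000000000000000004000400000
set_option linter.all false
open scoped Cfsg.Agent.FastGrp

/-!
# S5932, task E81: the field with 81 elements (helper30)

`Sit.e81` : `TorW` for `p = 3`, `a = 4`.
-/

set_option autoImplicit false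
set_option maxRecDepth 100000
set_option maxHeartbeats 200000

namespace Cfsg.Agent.E7P

open Cfsg Cfsg.Lie Matrix Module
open Cfsg.Agent.ChevalleyStructure.RootVec (rt)
open Cfsg.Agent.H943.E7V.Block (D1 rho)
open Cfsg.Agent.R2.T1 Cfsg.Agent.E7P.Kf
open Cfsg.Agent.H943.SL2Rel Cfsg.Agent.H943.SL2Mod
open Cfsg.Agent.R2.H28.SL2
open Cfsg.Agent.H179.SLC (isSS_h)

universe u v

namespace E81

/-- the coordinates of a weight -/
def rh (r : ℕ) : List ℕ × ℕ :=
  ((List.range 7).map fun j => (rt chevE8 r j).toNat, 32 * (27 - ((List.range 7).map fun j => (rt chevE8 r j).toNat).sum))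

theorem WL_rh : (WL.map fun w => rh w.1) = RH := by decide +kernel

theorem chk_rh : ∀ r < 240, rt chevE8 r 7 = 1 → ∀ j < 7, rt chevE8 r j = ((rh r).1.getD j 0 : ℕ) := by decide +kernel

theorem RH_fact : ∀ x ∈ RH, x.1.length = 7 ∧ x.2 + 32 * (x.1.getD 0 0 + x.1.getD 1 0 + x.1.getD 2 0 + x.1.getD 3 0 +
    x.1.getD 4 0 + x.1.getD 5 0 + x.1.getD 6 0) = 864 := by decide +kernel

theorem sum_rh (φ : List ℕ × ℕ → ℕ) : ∑ μ : D1, φ (rh (nn μ)) = (RH.map φ).sum := by
  rw [sum_D1 fun r => φ (rh r), ← WL_rh, List.map_map]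
  rfl

theorem rh_mem (μ : D1) : rh (nn μ) ∈ RH := by
  obtain ⟨w, hw, h1⟩ := List.mem_map.1 ((WL_mem _ (nn_lt μ)).1 (rt_nn μ))
  rw [← WL_rh, ← h1]
  exact List.mem_map.2 ⟨w, hw, rfl⟩

theorem wc_dp (μ : D1) (m : Fin 7 → ℤ) : ∑ i, wc μ i * Bl.co m i =
    2 * (((rh (nn μ)).1.getD 0 0 : ℕ) * m 0 + ((rh (nn μ)).1.getD 1 0 : ℕ) * m 1 + ((rh (nn μ)).1.getD 2 0 : ℕ) * m 2 +
      ((rh (nn μ)).1.getD 3 0 : ℕ) * m 3 + ((rh (nn μ)).1.getD 4 0 : ℕ) * m 4 + ((rh (nn μ)).1.getD 5 0 : ℕ) * m 5 +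
      ((rh (nn μ)).1.getD 6 0 : ℕ) * m 6) - (2 * m 0 + 3 * m 1 + 4 * m 2 + 6 * m 3 + 5 * m 4 + 4 * m 5 + 3 * m 6) := by
  have h1 : ∀ j : Fin 7, Bl.ra μ j = ((rh (nn μ)).1.getD j 0 : ℕ) := fun j => chk_rh _ (nn_lt μ) (rt_nn μ) j j.2
  rw [Bl.wc_co, Fin.sum_univ_seven, Fin.sum_univ_seven, h1, h1, h1, h1, h1, h1, h1]
  rfl

/-- the exponents -/
theorem ee_eq (μ : D1) (c : ℕ) : ((ee c (rh (nn μ)).1 : ℕ) : ℤ) = ∑ i, wc μ i * Bl.co (fun j => (dg c j : ℤ)) i +
    80 * (dg c 0 + dg c 1 + dg c 2 + dg c 3 + dg c 4 + dg c 5 + dg c 6 : ℕ) := by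
  rw [wc_dp, ee, dp7 (RH_fact _ (rh_mem μ)).1, dp_cc]
  simp only [Fin.coe_ofNat_eq_mod, Nat.reduceMod]
  push_cast
  ring

/-- the values of a cocharacter -/
theorem ff_eq (μ : D1) (k : ℕ) : ∑ i, wc μ i * Bl.co (fun j => (dg k j : ℤ) - 32) i = 2 * ((ff k (rh (nn μ)) : ℕ) : ℤ) - 864 -
    (2 * dg k 0 + 3 * dg k 1 + 4 * dg k 2 + 6 * dg k 3 + 5 * dg k 4 + 4 * dg k 5 + 3 * dg k 6 : ℕ) := by
  have h1 := congrArg (Nat.cast : ℕ → ℤ) (RH_fact _ (rh_mem μ)).2
  rw [wc_dp, ff, dp7 (RH_fact _ (rh_mem μ)).1]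
  simp only [Fin.coe_ofNat_eq_mod, Nat.reduceMod]
  push_cast at h1 ⊢
  linear_combination (-2) * h1

theorem nz_ne {k : ℕ} (h : nz k = true) : Bl.co (fun j => (dg k j : ℤ) - 32) ≠ 0 := by
  refine Bl.co_ne fun h0 => ?_
  obtain ⟨j, hj, h1⟩ := List.any_eq_true.1 h
  have h2 : (dg k j : ℤ) - 32 = 0 := congrFun h0 ⟨j, List.mem_range.1 hj⟩
  rw [Bool.not_eq_true', ← Bool.not_eq_true, Nat.beq_eq] at h1
  omega

theorem sum_fib {α : Type*} (s : Finset α) {f : α → ℕ} {N : ℕ} (hf : ∀ x, f x < N) (T : ℕ → ℕ) :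
    ∑ x ∈ s, T (f x) = ∑ θ ∈ Finset.range N, (s.filter fun x => f x = θ).card * T θ := by
  rw [← Finset.sum_fiberwise_of_maps_to (t := Finset.range N) (g := f) fun x _ => Finset.mem_range.2 (hf x)]
  refine Finset.sum_congr rfl fun θ _ => ?_
  rw [Finset.sum_congr rfl (g := fun _ => T θ) fun x hx => by rw [(Finset.mem_filter.1 hx).2], Finset.sum_const, smul_eq_mul]

section
variable {k : Type*} [Field k] [DecidableEq k] [CharP k 3]

theorem Bf_eq {b : ℕ} (hb : b < 81) : Bf k b = (Finset.range (b + 1)).filter fun m => dgb b m = true := by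
  have : Fact (Nat.Prime 3) := ⟨Nat.prime_three⟩
  refine Finset.filter_congr fun m hm => ?_
  have h1 := Finset.mem_range.1 hm
  rw [choose_ne_iff 3]
  simp only [dgb, Bool.and_eq_true, Nat.ble_eq]
  refine ⟨fun h => ⟨⟨⟨by simpa only [_root_.pow_zero, _root_.Nat.div_one] using h 0, by simpa using h 1⟩, by simpa using h 2⟩, by simpa using h 3⟩, fun h i => ?_⟩
  by_cases h4 : 4 ≤ i
  · rw [Nat.div_eq_of_lt (lt_of_lt_of_le (show m < 3 ^ 4 by omega) (Nat.pow_le_pow_right (by omega) h4)), Nat.zero_mod]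
    exact Nat.zero_le _
  · have h5 : i < 4 := by omega
    interval_cases i
    · simpa only [_root_.pow_zero, _root_.Nat.div_one, _root_.ge_iff_le] using h.1.1.1
    · simpa using h.1.1.2
    · simpa using h.1.2
    · simpa using h.2

theorem ys_eq (T : ℕ → ℕ) {b : ℕ} (hb : b < 81) : ys T b = ∑ m ∈ Bf k b, T (E27.wx 80 b m) := by
  rw [Bf_eq hb, ys, wl, List.map_map, ← List.sum_toFinset _ (List.nodup_range.filter _), List.toFinset_filter,
    List.toFinset_range]
  rfl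

theorem mem_wl {b m : ℕ} (hb : b < 81) (hm : m ∈ Bf k b) : E27.wx 80 b m ∈ wl b := by
  rw [Bf_eq hb, Finset.mem_filter, Finset.mem_range] at hm
  exact List.mem_map.2 ⟨m, List.mem_filter.2 ⟨List.mem_range.2 hm.1, hm.2⟩, rfl⟩

end

theorem dg_zero {x : ℕ} (h : x < 64) (y : ℕ) : dg (x + 64 * y) 0 = x := by
  unfold dg
  omega

theorem dg_succ {x : ℕ} (h : x < 64) (y j : ℕ) : dg (x + 64 * y) (j + 1) = dg y j := by
  rw [dg, dg, pow_succ', ← Nat.div_div_eq_div_mul, show (x + 64 * y) / 64 = y by omega]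

theorem exists_code (s : Fin 7 → ℕ) (h : s 0 + s 1 + s 2 + s 3 + s 4 + s 5 + s 6 < 64) :
    ∃ c < 64 ^ 7, ∀ j : Fin 7, dg c j = s j := by
  have h0 : s 0 < 64 := by omega
  have h1 : s 1 < 64 := by omega
  have h2 : s 2 < 64 := by omega
  have h3 : s 3 < 64 := by omega
  have h4 : s 4 < 64 := by omega
  have h5 : s 5 < 64 := by omega
  have h6 : s 6 < 64 := by omega
  refine ⟨s 0 + 64 * (s 1 + 64 * (s 2 + 64 * (s 3 + 64 * (s 4 + 64 * (s 5 + 64 * (s 6 + 64 * 0)))))), by (clear * - h; (solve | lia | omega)), fun j => ?_⟩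
  fin_cases j
  · exact dg_zero h0 _
  · exact (dg_succ h0 _ 0).trans (dg_zero h1 _)
  · exact (dg_succ h0 _ 1).trans ((dg_succ h1 _ 0).trans (dg_zero h2 _))
  · exact (dg_succ h0 _ 2).trans ((dg_succ h1 _ 1).trans ((dg_succ h2 _ 0).trans (dg_zero h3 _)))
  · exact (dg_succ h0 _ 3).trans ((dg_succ h1 _ 2).trans ((dg_succ h2 _ 1).trans ((dg_succ h3 _ 0).trans (dg_zero h4 _))))
  · exact (dg_succ h0 _ 4).trans ((dg_succ h1 _ 3).trans ((dg_succ h2 _ 2).trans ((dg_succ h3 _ 1).trans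
      ((dg_succ h4 _ 0).trans (dg_zero h5 _)))))
  · exact (dg_succ h0 _ 5).trans ((dg_succ h1 _ 4).trans ((dg_succ h2 _ 3).trans ((dg_succ h3 _ 2).trans
      ((dg_succ h4 _ 1).trans ((dg_succ h5 _ 0).trans (dg_zero h6 _))))))

theorem pow_three (j : ℕ) : 3 ^ j % 80 = 1 ∨ 3 ^ j % 80 = 3 ∨ 3 ^ j % 80 = 9 ∨ 3 ^ j % 80 = 27 := by
  induction j with
  | zero => exact Or.inl rfl
  | succ j ih =>
    rw [pow_succ]
    (clear * - ih; solve | lia | omega)

/-- the rotations -/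
theorem rot_nine {e : D1 → ℕ} {j : ℕ} (h : ∀ T : ℕ → ℕ, ∑ μ, T (3 ^ j * e μ % 80) = ∑ μ, T (e μ % 80)) :
    3 ^ j % 80 = 1 ∨ ∀ T : ℕ → ℕ, ∑ μ, T (9 * (e μ % 80) % 80) = ∑ μ, T (e μ % 80) := by
  simp only [Nat.mul_mod (3 ^ j)] at h
  have key : ∀ w : ℕ, 3 ^ j % 80 = w → (∀ x, w * (w * x % 80) % 80 = 9 * x % 80) →
      ∀ T : ℕ → ℕ, ∑ μ, T (9 * (e μ % 80) % 80) = ∑ μ, T (e μ % 80) := by
    intro w h1 h2 T
    rw [h1] at h
    rw [← h T, ← h fun x => T (w * x % 80)]
    simp only [h2]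
  rcases pow_three j with h1 | h1 | h1 | h1
  · exact Or.inl h1
  · exact Or.inr (key 3 h1 fun x => by (clear * -; solve | lia | omega))
  · rw [h1] at h
    exact Or.inr h
  · exact Or.inr (key 27 h1 fun x => by (clear * -; solve | lia | omega))

end E81

namespace Sit

variable {p a b : ℕ} {F : Type u} {K : Type v} {k : Type u} [Field F] [Fintype F] [Field K] [Fintype K] [Field k]
  (S : Sit p a b F K k)

/-- **E81** -/
theorem e81 (hp : p = 3) (ha : a = 4) (hs : S.SSC) : Nonempty (S.TorW (rho k)) := by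
  classical
  subst hp ha
  have := S.closed
  have := S.chark
  have := S.charK
  have : Fact (Nat.Prime 3) := ⟨Nat.prime_three⟩
  obtain ⟨c0, g, t, hζ, ht, hg⟩ := S.e27_frame
  replace hζ : IsPrimitiveRoot (S.ι c0) 80 := hζ
  have hN : ((80 : ℕ) : k) ≠ 0 := fun h0 => absurd ((CharP.cast_eq_zero_iff k 3 80).1 h0) (by norm_num)
  have hc : ∀ i, S.ι c0 ^ i = 1 → c0 ^ i = 1 := fun i h0 =>
    Units.ext (S.ι.injective (by rw [Units.val_pow_eq_pow_val, map_pow, h0, Units.val_one, map_one]))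
  let ζ : kˣ := Units.map (S.ι : K →* k) c0
  have hζ' : IsPrimitiveRoot ζ (2 * 40) := IsPrimitiveRoot.coe_units_iff.1 hζ
  obtain ⟨w, s, h1, h2⟩ := E81.alc' (by norm_num) hζ' ht (by
    rw [← map_pow, ← h_pow, hc _ hζ.pow_eq_one, h_one, map_one]) (by
    rw [← map_pow, ← h_pow, S.ψ_mem_center]
    have h3 : ((c0 ^ 40 : Kˣ) : K) * ((c0 ^ 40 : Kˣ) : K) = 1 := by
      rw [← Units.val_mul, ← pow_add, hc _ hζ.pow_eq_one, Units.val_one]
    rcases mul_self_eq_one_iff.1 h3 with h4 | h4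
    · exact Or.inl (by rw [show c0 ^ 40 = 1 from Units.ext h4, h_one])
    · exact Or.inr (by rw [show c0 ^ 40 = -1 from Units.ext h4, h_neg_one]))
  simp only [Fin.sum_univ_seven, Lb.mk, Matrix.cons_val] at h1
  obtain ⟨c, hc1, hc2⟩ := E81.exists_code s (by omega)
  rw [show (fun i => (s i : ℤ)) = fun i : Fin 7 => (E81.dg c i : ℤ) from funext fun i => by rw [hc2]] at h2
  let e : D1 → ℕ := fun μ => E81.ee c (E81.rh (R2.T1.nn μ)).1
  have he : ∀ μ, ((ch (wc μ) (lam (Bl.co fun i : Fin 7 => (E81.dg c i : ℤ)) ζ) : kˣ) : k) = S.ι c0 ^ e μ := fun μ => by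
    have h3 : ζ ^ e μ = ζ ^ ∑ i, wc μ i * Bl.co (fun j => (E81.dg c j : ℤ)) i := by
      rw [← zpow_natCast, E81.ee_eq, _root_.zpow_add, _root_.zpow_mul, show ζ ^ (80 : ℤ) = 1 from
        (zpow_natCast ζ 80).trans hζ'.pow_eq_one, _root_.one_zpow, mul_one]
    rw [ch_lam, ← h3]
    rfl
  have hc0 : c ≠ 0 := by
    rintro rfl
    have h3 : (lam (Bl.co fun i : Fin 7 => (E81.dg 0 i : ℤ)) ζ) = 1 := by
      funext i
      have h4 : Bl.co (fun i : Fin 7 => (E81.dg 0 i : ℤ)) i = 0 := by simp [Bl.co, E81.dg]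
      show ζ ^ Bl.co (fun i : Fin 7 => (E81.dg 0 i : ℤ)) i = 1
      rw [h4, zpow_zero]
    rw [h3, map_one, mul_one, mul_inv_cancel] at h2
    have h4 := S.bl_sq (c := c0) (by rw [h2, map_one])
    have h5 : S.ι c0 ^ 2 = 1 := by rw [← map_pow, ← Units.val_pow_eq_pow_val, h4, Units.val_one, map_one]
    exact absurd (hζ.dvd_of_pow_eq_one 2 h5) (by norm_num)
  obtain ⟨d, hd, n, H, hd0⟩ : ∃ d, InSoc S.ι 3 S.R d ∧ ∃ n, IsMult S.ι 3 4 S.R n ∧ n d ≠ 0 := by
    obtain ⟨d, hd, hd'⟩ := S.e27_exists_soc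
    exact ⟨d, hd, _, isMult_cf S.ι 3 S.cardK S.R, Multiset.count_ne_zero.2 hd'⟩
  have hd1 : d < 81 := H.supp d hd0
  obtain ⟨Θ, κ, h3, h4, h5, h6⟩ := E81.arith (n := n) hc1 hc0 (by
    have e0 : E81.dg c 0 = s 0 := hc2 0
    have e1 : E81.dg c 1 = s 1 := hc2 1
    have e2 : E81.dg c 2 = s 2 := hc2 2
    have e3 : E81.dg c 3 = s 3 := hc2 3
    have e4 : E81.dg c 4 = s 4 := hc2 4
    have e5 : E81.dg c 5 = s 5 := hc2 5
    have e6 : E81.dg c 6 = s 6 := hc2 6
    omega) (fun T => by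
    rw [← E81.sum_rh fun x => T (E81.em c x.1)]
    refine (E81.sum_fib Finset.univ (f := fun μ => e μ % 80) (fun _ => Nat.mod_lt _ (by norm_num)) T).trans ?_
    rw [Finset.sum_congr rfl fun θ hθ => congrArg (· * T θ) (S.e27_count wrep_V (fun _ _ => rfl) H (isSS_h S.ι c0) hζ hN
      (by norm_num) h2 he (Finset.mem_range.1 hθ))]
    simp only [Finset.sum_mul]
    rw [Finset.sum_comm]
    refine Finset.sum_congr rfl fun x hx => ?_
    rw [E81.ys_eq (k := k) T (Finset.mem_range.1 hx), E81.sum_fib _ (f := E27.wx 80 x) (N := 80) (fun _ => Nat.mod_lt _ (by norm_num)) T,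
      Finset.mul_sum]
    exact Finset.sum_congr rfl fun θ _ => mul_assoc _ _ _) hd1 hd0
  refine S.e27_torw' (by norm_num) hs (by norm_num) hζ (by norm_num) h2 (hg w) he (Θ := Θ) (fun j hj θ hθ h7 => ?_) hd
    (fun m hm => h4 _ (E81.mem_wl hd1 hm)) (E81.nz_ne h3) fun μ ν h7 h8 => ?_
  · rcases h5 with h5 | h5
    · exact h5 _
    rcases E81.rot_nine (e := e) (j := j) (fun T => by
      rw [E81.sum_fib Finset.univ (f := fun μ => e μ % 80) (fun _ => Nat.mod_lt _ (by norm_num)) T,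
        E81.sum_fib Finset.univ (f := fun μ => 3 ^ j * e μ % 80) (fun _ => Nat.mod_lt _ (by norm_num)) T]
      exact Finset.sum_congr rfl fun x hx => congrArg (· * T x) (hj.count wrep_V (ρ := S.R) (fun _ _ => rfl) (isSS_h S.ι c0)
        hζ hN h2 he (Finset.mem_range.1 hx))) with h8 | h8
    · rwa [Nat.mul_mod, h8, one_mul, Nat.mod_mod, Nat.mod_eq_of_lt hθ]
    · refine absurd ?_ h5
      rw [E81.cn, E81.cn, ← E81.sum_rh, ← E81.sum_rh]
      refine Eq.trans ?_ (h8 fun x => 512 ^ x).symm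
      simp only [E81.em, one_mul, Nat.mod_mod, e]
  · rw [E81.ff_eq, E81.ff_eq, h6 _ (E81.rh_mem μ) _ (E81.rh_mem ν) h7 h8]

end Sit

end Cfsg.Agent.E7P

private theorem dce_0e0b27fd3304 : _root_.True := by
  try have : _root_.True := by simp only [_root_.Cfsg.Agent.E7P.E81.dgb.eq_1]
  try have : _root_.True := by simp only [_root_.Cfsg.Agent.E7P.E81.ys.eq_1]
  try have : _root_.True := by simp only [_root_.Cfsg.Agent.E7P.E81.wl.eq_1]
  try have : _root_.True := by simp only [_root_.Cfsg.Agent.E7P.E81.ff.eq_1]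
  exact _root_.True.intro
end
end
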